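import Mathlib

/-!
# Groups whose cyclic subgroups of even order have the normaliser of each nontrivial subgroup

If every cyclic subgroup `X` of even order satisfies `N(X) = N(Y)` for all `1 ≠ Y ≤ X`, then the
centraliser of an involution is an extension of a group of odd order, all of whose cyclic subgroups
are normal, by a `2`-group, and in a Sylow `2`-subgroup every element of order at least `4`
generates a normal subgroup.
-/

set_option autoImplicit false
set_option linter.unusedSectionVars false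
set_option linter.style.haveILetI false

namespace CfsgLib.CyclicNorm

variable {G : Type*} [Group G]

/-- No nontrivial solvable normal subgroup, and the normaliser condition. -/
structure Hyp (G : Type*) [Group G] : Prop where
  rad : ∀ N : Subgroup G, N.Normal → Group.IsSolvable ↥N → N = ⊥
  norm : ∀ X : Subgroup G, IsCyclic ↥X → Even (Nat.card ↥X) → ∀ Y : Subgroup G, Y ≤ X → Y ≠ ⊥ →
    Subgroup.normalizer (X : Set G) = Subgroup.normalizer (Y : Set G)

/-- The centraliser of an element. -/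
abbrev C (t : G) : Subgroup G := Subgroup.centralizer ({t} : Set G)

theorem mem_C {t x : G} : x ∈ C t ↔ x * t = t * x := Subgroup.mem_centralizer_singleton_iff

theorem self_mem_C (t : G) : t ∈ C t := mem_C.mpr rfl

theorem mem_C_symm {t x : G} (h : x ∈ C t) : t ∈ C x := mem_C.mpr (mem_C.mp h).symm

theorem mul_self_of_orderOf {t : G} (ht : orderOf t = 2) : t * t = 1 := by
  rw [← sq, ← ht, pow_orderOf_eq_one]

theorem ne_one_of_orderOf {t : G} (ht : orderOf t = 2) : t ≠ 1 := fun h => by simp [h] at ht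

theorem zpow_two_cases {t : G} (ht : orderOf t = 2) (i : ℤ) : t ^ i = 1 ∨ t ^ i = t := by
  rcases Int.even_or_odd i with ⟨k, rfl⟩ | ⟨k, rfl⟩
  · left
    rw [zpow_add, ← (Commute.refl t).mul_zpow, mul_self_of_orderOf ht, one_zpow]
  · right
    rw [zpow_add_one, zpow_mul, zpow_two, mul_self_of_orderOf ht, one_zpow, one_mul]

theorem normalizer_zpowers_involution {t : G} (ht : orderOf t = 2) :
    Subgroup.normalizer ((Subgroup.zpowers t : Subgroup G) : Set G) = C t := by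
  ext g
  constructor
  · intro hg
    have h := (Subgroup.mem_normalizer_iff.mp hg t).mp (Subgroup.mem_zpowers t)
    obtain ⟨i, hi⟩ := Subgroup.mem_zpowers_iff.mp h
    rcases zpow_two_cases ht i with h' | h' <;> rw [h'] at hi
    · exact absurd (conj_eq_one_iff.mp hi.symm) (ne_one_of_orderOf ht)
    · exact mem_C.mpr (mul_inv_eq_iff_eq_mul.mp hi.symm)
  · intro hg
    rw [Subgroup.mem_normalizer_iff]
    intro y
    have hc : Commute g t := mem_C.mp hg
    constructor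
    · intro hy
      obtain ⟨i, rfl⟩ := Subgroup.mem_zpowers_iff.mp hy
      rw [(hc.zpow_right i).eq, mul_inv_cancel_right]
      exact hy
    · intro hy
      obtain ⟨i, hi⟩ := Subgroup.mem_zpowers_iff.mp hy
      have : y = t ^ i := by
        rw [show y = g⁻¹ * (g * y * g⁻¹) * g by group, ← hi, (hc.zpow_right i).inv_left.eq,
          inv_mul_cancel_right]
      exact this ▸ Subgroup.zpow_mem_zpowers t i

theorem involution_unique {x s t : G} (hs : orderOf s = 2) (ht : orderOf t = 2)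
    (hsx : s ∈ Subgroup.zpowers x) (htx : t ∈ Subgroup.zpowers x) [Finite G] : s = t := by
  by_contra hne
  have hcyc : IsCyclic (Subgroup.zpowers x) := inferInstance
  classical
  haveI := Fintype.ofFinite (Subgroup.zpowers x)
  have h := hcyc.card_pow_eq_one_le (n := 2) two_pos
  have h3 : ({1, ⟨s, hsx⟩, ⟨t, htx⟩} : Finset (Subgroup.zpowers x)) ⊆
      Finset.univ.filter fun a => a ^ 2 = 1 := by
    intro a ha
    simp only [Finset.mem_insert, Finset.mem_singleton] at ha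
    simp only [Finset.mem_filter, Finset.mem_univ, true_and]
    rcases ha with rfl | rfl | rfl
    · exact one_pow _
    · exact Subtype.ext (by simp [sq, mul_self_of_orderOf hs])
    · exact Subtype.ext (by simp [sq, mul_self_of_orderOf ht])
  have h4 : ({1, ⟨s, hsx⟩, ⟨t, htx⟩} : Finset (Subgroup.zpowers x)).card = 3 := by
    rw [Finset.card_insert_of_notMem, Finset.card_insert_of_notMem, Finset.card_singleton]
    · simp [Subtype.ext_iff, hne]
    · simp [Subtype.ext_iff, (ne_one_of_orderOf hs).symm, (ne_one_of_orderOf ht).symm]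
  have := Finset.card_le_card h3
  omega

variable [Finite G] (h : Hyp G)
include h

theorem Hyp.normalizer_eq {x t y : G} (ht : orderOf t = 2) (htx : t ∈ Subgroup.zpowers x)
    (hy : y ∈ Subgroup.zpowers x) (hy1 : y ≠ 1) :
    Subgroup.normalizer ((Subgroup.zpowers y : Subgroup G) : Set G) = C t := by
  have heven : Even (Nat.card ↥(Subgroup.zpowers x)) := by
    rw [even_iff_two_dvd, ← ht, ← Subgroup.orderOf_mk t htx]
    exact orderOf_dvd_natCard _
  rw [← normalizer_zpowers_involution ht,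
    ← h.norm _ inferInstance heven (Subgroup.zpowers y) (Subgroup.zpowers_le.mpr hy)
      (by rwa [Ne, Subgroup.zpowers_eq_bot]),
    ← h.norm _ inferInstance heven (Subgroup.zpowers t) (Subgroup.zpowers_le.mpr htx)
      (by rw [Ne, Subgroup.zpowers_eq_bot]; exact ne_one_of_orderOf ht)]

theorem Hyp.conj_mem {x t y c : G} (ht : orderOf t = 2) (htx : t ∈ Subgroup.zpowers x)
    (hy : y ∈ Subgroup.zpowers x) (hc : c ∈ C t) : c * y * c⁻¹ ∈ Subgroup.zpowers y := by
  by_cases hy1 : y = 1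
  · simp [hy1]
  rw [← h.normalizer_eq ht htx hy hy1] at hc
  exact (Subgroup.mem_normalizer_iff.mp hc y).mp (Subgroup.mem_zpowers y)

theorem Hyp.normalizer_odd {t u : G} (ht : orderOf t = 2) (hu : u ∈ C t) (hodd : Odd (orderOf u))
    (hu1 : u ≠ 1) : Subgroup.normalizer ((Subgroup.zpowers u : Subgroup G) : Set G) = C t := by
  have hc : Commute u t := mem_C.mp hu
  have htx : t ∈ Subgroup.zpowers (u * t) := by
    refine Subgroup.mem_zpowers_iff.mpr ⟨(orderOf u : ℤ), ?_⟩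
    obtain ⟨k, hk⟩ := hodd
    rw [zpow_natCast, hc.mul_pow, pow_orderOf_eq_one, one_mul, hk, pow_succ, pow_mul, sq,
      mul_self_of_orderOf ht, one_pow, one_mul]
  refine h.normalizer_eq ht htx ?_ hu1
  have := Subgroup.mul_mem _ (Subgroup.mem_zpowers (u * t)) htx
  rwa [mul_assoc, mul_self_of_orderOf ht, mul_one] at this

theorem Hyp.centralizer_odd_le {t u : G} (ht : orderOf t = 2) (hu : u ∈ C t)
    (hodd : Odd (orderOf u)) (hu1 : u ≠ 1) {c : G} (hc : Commute c u) : c ∈ C t := by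
  rw [← h.normalizer_odd ht hu hodd hu1, Subgroup.mem_normalizer_iff]
  intro y
  constructor
  · intro hy
    obtain ⟨i, rfl⟩ := Subgroup.mem_zpowers_iff.mp hy
    rwa [(hc.zpow_right i).eq, mul_inv_cancel_right]
  · intro hy
    obtain ⟨i, hi⟩ := Subgroup.mem_zpowers_iff.mp hy
    have : y = u ^ i := by
      rw [show y = c⁻¹ * (c * y * c⁻¹) * c by group, ← hi, (hc.zpow_right i).inv_left.eq,
        inv_mul_cancel_right]
    exact this ▸ Subgroup.zpow_mem_zpowers u i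

theorem Hyp.conj_odd {t u c : G} (ht : orderOf t = 2) (hu : u ∈ C t) (hodd : Odd (orderOf u))
    (hc : c ∈ C t) : c * u * c⁻¹ ∈ Subgroup.zpowers u := by
  by_cases hu1 : u = 1
  · simp [hu1]
  rw [← h.normalizer_odd ht hu hodd hu1] at hc
  exact (Subgroup.mem_normalizer_iff.mp hc u).mp (Subgroup.mem_zpowers u)

/-- Two involutions centralising a common nontrivial element of odd order have the same centraliser. -/
theorem Hyp.C_eq_of_odd {t s u : G} (ht : orderOf t = 2) (hs : orderOf s = 2) (hut : u ∈ C t)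
    (hus : u ∈ C s) (hodd : Odd (orderOf u)) (hu1 : u ≠ 1) : C t = C s :=
  (h.normalizer_odd ht hut hodd hu1).symm.trans (h.normalizer_odd hs hus hodd hu1)

theorem Hyp.pow_mul_eq {t u v : G} (ht : orderOf t = 2) (hu : u ∈ C t) (hodd : Odd (orderOf u))
    (hv : v ∈ C t) (n : ℕ) : ∃ i : ℤ, (u * v) ^ n = u ^ i * v ^ n := by
  induction n with
  | zero => exact ⟨0, by simp⟩
  | succ n ih =>
    obtain ⟨i, hi⟩ := ih
    obtain ⟨j, hj⟩ := Subgroup.mem_zpowers_iff.mp (h.conj_odd ht hu hodd (pow_mem hv n))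
    refine ⟨i + j, ?_⟩
    rw [pow_succ, hi, zpow_add, hj, pow_succ]
    group

/-- The elements of odd order of the centraliser of an involution form a subgroup. -/
def O {t : G} (ht : orderOf t = 2) : Subgroup G where
  carrier := {u | u ∈ C t ∧ Odd (orderOf u)}
  one_mem' := ⟨one_mem _, by simp⟩
  inv_mem' := fun {u} hu => ⟨inv_mem hu.1, by rw [orderOf_inv]; exact hu.2⟩
  mul_mem' := fun {u v} hu hv => by
    refine ⟨mul_mem hu.1 hv.1, ?_⟩
    obtain ⟨i, hi⟩ := h.pow_mul_eq ht hu.1 hu.2 hv.1 (orderOf v)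
    rw [pow_orderOf_eq_one, mul_one] at hi
    have h1 : (u * v) ^ (orderOf v * orderOf u) = 1 := by
      rw [pow_mul, hi, ← zpow_natCast (u ^ i), ← zpow_mul, mul_comm i, zpow_mul, zpow_natCast,
        pow_orderOf_eq_one, one_zpow]
    exact Odd.of_dvd_nat (hv.2.mul hu.2) (orderOf_dvd_of_pow_eq_one h1)

theorem Hyp.mem_O {t u : G} (ht : orderOf t = 2) : u ∈ O h ht ↔ u ∈ C t ∧ Odd (orderOf u) := Iff.rfl

theorem Hyp.O_le {t : G} (ht : orderOf t = 2) : O h ht ≤ C t := fun _ hu => hu.1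

theorem Hyp.odd_card_O {t : G} (ht : orderOf t = 2) : Odd (Nat.card ↥(O h ht)) := by
  rw [← Nat.not_even_iff_odd, even_iff_two_dvd]
  intro h2
  haveI := Fact.mk Nat.prime_two
  obtain ⟨u, hu⟩ := exists_prime_orderOf_dvd_card' (G := ↥(O h ht)) 2 h2
  have := u.2.2
  rw [Subgroup.orderOf_coe, hu] at this
  exact absurd this (by decide)

theorem Hyp.eq_one_of_mem_O_two {t u : G} (ht : orderOf t = 2) (hu : u ∈ O h ht) {k : ℕ}
    (hk : u ^ 2 ^ k = 1) : u = 1 := by
  rw [← orderOf_eq_one_iff]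
  exact Nat.eq_one_of_dvd_coprimes ((Nat.coprime_two_left.mpr hu.2).pow_left k)
    (orderOf_dvd_of_pow_eq_one hk) dvd_rfl

theorem Hyp.conj_O {t c u : G} (ht : orderOf t = 2) (hc : c ∈ C t) (hu : u ∈ O h ht) :
    c * u * c⁻¹ ∈ O h ht := by
  refine ⟨mul_mem (mul_mem hc hu.1) (inv_mem hc), ?_⟩
  rw [← MulAut.conj_apply, MulEquiv.orderOf_eq]
  exact hu.2

/-- The centraliser of an involution is the product of its odd part and any Sylow `2`-subgroup of
the group which it contains. -/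
theorem Hyp.exists_decomp {t : G} (ht : orderOf t = 2) (P : Sylow 2 G)
    (hP : (P : Subgroup G) ≤ C t) {x : G} (hx : x ∈ C t) :
    ∃ k ∈ O h ht, ∃ y ∈ (P : Subgroup G), x = k * y := by
  haveI := Fact.mk Nat.prime_two
  set O' := (O h ht).subgroupOf (C t)
  haveI : O'.Normal := ⟨fun n hn g => by
    rw [Subgroup.mem_subgroupOf] at hn ⊢
    simpa using h.conj_O ht g.2 hn⟩
  have hq : IsPGroup 2 (C t ⧸ O') := by
    intro g
    obtain ⟨c, rfl⟩ := QuotientGroup.mk'_surjective O' g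
    refine ⟨(orderOf (c : G)).factorization 2, ?_⟩
    rw [← map_pow]
    refine (QuotientGroup.eq_one_iff _).mpr ?_
    rw [Subgroup.mem_subgroupOf, Subgroup.coe_pow]
    refine ⟨pow_mem c.2 _, ?_⟩
    rw [orderOf_pow_of_dvd (pow_ne_zero _ two_ne_zero) (Nat.ordProj_dvd _ _)]
    exact Nat.not_even_iff_odd.mp fun hev =>
      Nat.not_dvd_ordCompl Nat.prime_two (orderOf_pos _).ne' hev.two_dvd
  obtain ⟨k, hk⟩ := IsPGroup.iff_card.mp hq
  set P' := (P : Subgroup G).subgroupOf (C t)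
  have hP'card : Nat.card P' = Nat.card P :=
    Nat.card_congr (Subgroup.subgroupOfEquivOfLe hP).toEquiv
  have hOcard : Nat.card O' = Nat.card ↥(O h ht) :=
    Nat.card_congr (Subgroup.subgroupOfEquivOfLe (h.O_le ht)).toEquiv
  have hcop : Nat.Coprime (Nat.card O') (Nat.card P') := by
    rw [hP'card, hOcard, P.card_eq_multiplicity]
    exact (Nat.coprime_two_right.mpr (h.odd_card_O ht)).pow_right _
  have h1 : Nat.card O' * O'.index = Nat.card (C t) := O'.card_mul_index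
  have h2 : Nat.card P' ∣ O'.index := by
    refine hcop.symm.dvd_of_dvd_mul_left ?_
    rw [h1]; exact P'.card_subgroup_dvd_card
  have h3 : O'.index ∣ Nat.card P' := by
    rw [Subgroup.index, hk, hP'card, P.card_eq_multiplicity]
    refine pow_dvd_pow 2 ?_
    rw [← Nat.Prime.pow_dvd_iff_le_factorization Nat.prime_two Nat.card_pos.ne', ← hk]
    exact ((Subgroup.index_dvd_card O').trans (Subgroup.card_subgroup_dvd_card (C t)))
  have hcomp : Subgroup.IsComplement' O' P' := Subgroup.isComplement'_of_coprime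
    (by rw [← Nat.dvd_antisymm h3 h2]; exact h1) hcop
  obtain ⟨⟨k', y'⟩, hky⟩ := hcomp.2 ⟨x, hx⟩
  exact ⟨_, k'.2, _, y'.2, (congrArg Subtype.val hky).symm⟩

/-- Central involutions of different Sylow `2`-subgroups of an involution centraliser. -/
theorem Hyp.central_of_central {t b : G} (ht : orderOf t = 2) (P P' : Sylow 2 G)
    (hP : (P : Subgroup G) ≤ C t) (hP' : (P' : Subgroup G) ≤ C t) (hb : b ∈ (P : Subgroup G))
    (hcen : ∀ y ∈ (P' : Subgroup G), Commute b y) :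
    ∀ y ∈ (P : Subgroup G), Commute b y := by
  intro y hy
  obtain ⟨k, hk, y', hy', rfl⟩ := h.exists_decomp ht P' hP' (hP hy)
  have hmem : b * (k * y') * b⁻¹ * (k * y')⁻¹ ∈ (P : Subgroup G) :=
    mul_mem (mul_mem (mul_mem hb hy) (inv_mem hb)) (inv_mem hy)
  have heq : b * (k * y') * b⁻¹ * (k * y')⁻¹ = b * k * b⁻¹ * k⁻¹ :=
    calc _ = b * k * (y' * b⁻¹ * y'⁻¹) * k⁻¹ := by group
      _ = _ := by rw [((hcen y' hy').inv_left).symm.eq, mul_inv_cancel_right]
  have hO : b * k * b⁻¹ * k⁻¹ ∈ O h ht := mul_mem (h.conj_O ht (hP hb) hk) (inv_mem hk)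
  obtain ⟨n, hn⟩ := P.2 ⟨_, hmem⟩
  have h1 : b * (k * y') * b⁻¹ * (k * y')⁻¹ = 1 :=
    h.eq_one_of_mem_O_two ht (heq ▸ hO) (congrArg Subtype.val hn)
  exact mul_inv_eq_iff_eq_mul.mp (mul_inv_eq_one.mp h1)

/-- In a Sylow `2`-subgroup, the involution of a cyclic subgroup of order at least `4` is central. -/
theorem Hyp.square_involution_central (T : Sylow 2 G) {x s : G} (hx : x ∈ (T : Subgroup G))
    (hx2 : x * x ≠ 1) (hs : orderOf s = 2) (hsx : s ∈ Subgroup.zpowers x) :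
    ∀ y ∈ (T : Subgroup G), Commute s y := by
  haveI := Fact.mk Nat.prime_two
  by_contra hnc
  set D := (T : Subgroup G) ⊓ C s with hD
  have hsT : s ∈ (T : Subgroup G) := Subgroup.zpowers_le.mpr hx hsx
  obtain ⟨i₀, hi₀⟩ := Subgroup.mem_zpowers_iff.mp hsx
  have hxD : x ∈ D := ⟨hx, mem_C.mpr (hi₀ ▸ (Commute.self_zpow x i₀).eq)⟩
  have hlt : D < (T : Subgroup G) := lt_of_le_of_ne inf_le_left fun heq => hnc fun y hy =>
    (mem_C.mp (heq.ge hy).2).symm
  -- an element normalising `D` of order two modulo `D`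
  obtain ⟨a, haT, haD, ha2, han⟩ : ∃ a ∈ (T : Subgroup G), a ∉ D ∧ a * a ∈ D ∧
      ∀ d, d ∈ D ↔ a * d * a⁻¹ ∈ D := by
    haveI : Group.IsNilpotent (T : Subgroup G) := T.2.isNilpotent
    set D' := D.subgroupOf (T : Subgroup G)
    have hD' : D' < ⊤ := lt_top_iff_ne_top.mpr fun he =>
      hlt.not_ge (Subgroup.subgroupOf_eq_top.mp he)
    obtain ⟨a, ha, haD⟩ := SetLike.exists_of_lt (Group.normalizerCondition_of_isNilpotent D' hD')
    obtain ⟨n, hn⟩ := T.2 a
    have hex : ∃ j, a ^ 2 ^ j ∈ D' := ⟨n, by rw [hn]; exact one_mem _⟩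
    classical
    obtain ⟨j, hj⟩ : ∃ j, Nat.find hex = j + 1 := Nat.exists_eq_succ_of_ne_zero fun h0 => haD (by
      simpa [h0] using Nat.find_spec hex)
    refine ⟨((a ^ 2 ^ j : (T : Subgroup G)) : G), (a ^ 2 ^ j).2, fun hmem => ?_, ?_, fun d => ?_⟩
    · exact Nat.find_min hex (by omega : j < Nat.find hex) (Subgroup.mem_subgroupOf.mpr hmem)
    · have := Nat.find_spec hex
      rw [hj, pow_succ, pow_mul, sq, Subgroup.mem_subgroupOf] at this
      exact this
    · by_cases hd : d ∈ (T : Subgroup G)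
      · exact Subgroup.mem_normalizer_iff.mp (pow_mem ha (2 ^ j)) ⟨d, hd⟩
      · refine ⟨fun h' => absurd h'.1 hd, fun h' => absurd ?_ hd⟩
        have := mul_mem (mul_mem (inv_mem (a ^ 2 ^ j).2) h'.1) (a ^ 2 ^ j).2
        simpa [mul_assoc] using this
  -- replace `a` so that `(x a)² ≠ 1`
  wlog hv : (x * a) * (x * a) ≠ 1 generalizing a with key
  · push Not at hv
    refine key (x * a) (mul_mem hx haT) (fun hmem => haD (by
      simpa using mul_mem (inv_mem hxD) hmem)) (hv ▸ one_mem _) (fun d => ?_) ?_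
    · rw [show x * a * d * (x * a)⁻¹ = x * (a * d * a⁻¹) * x⁻¹ by group, han d]
      refine ⟨fun h' => mul_mem (mul_mem hxD h') (inv_mem hxD), fun h' => ?_⟩
      simpa [mul_assoc] using mul_mem (mul_mem (inv_mem hxD) h') hxD
    · intro hh
      refine haD ⟨haT, mem_C.mpr ?_⟩
      have e1 : x * a * x = a⁻¹ := eq_inv_of_mul_eq_one_left (by rw [← hv]; group)
      have e2 : a⁻¹ * x * a = x⁻¹ := eq_inv_of_mul_eq_one_right (by rw [← hh, ← e1]; group)
      have e3 : a⁻¹ * s * a = s := by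
        have e4 := conj_zpow (a := a⁻¹) (b := x) (i := i₀)
        rw [inv_inv, e2, inv_zpow, hi₀] at e4
        exact e4.symm.trans (inv_eq_of_mul_eq_one_left (mul_self_of_orderOf hs))
      calc a * s = a * (a⁻¹ * s * a) := by rw [e3]
        _ = s * a := by group
  set x₁ := a * x * a⁻¹ with hx₁
  set s₁ := a * s * a⁻¹ with hs₁
  have hx₁D : x₁ ∈ D := (han x).mp hxD
  have hs₁o : orderOf s₁ = 2 := by rw [hs₁, ← MulAut.conj_apply, MulEquiv.orderOf_eq, hs]
  have hs₁x : s₁ ∈ Subgroup.zpowers x₁ :=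
    Subgroup.mem_zpowers_iff.mpr ⟨i₀, by rw [hx₁, conj_zpow, hi₀]⟩
  have hsne : s₁ ≠ s := fun he => haD ⟨haT, mem_C.mpr (mul_inv_eq_iff_eq_mul.mp he)⟩
  have hdisj : ∀ z, z ∈ Subgroup.zpowers x → z ∈ Subgroup.zpowers x₁ → z = 1 := by
    intro z hz hz₁
    by_contra hz1
    obtain ⟨n, hn⟩ := T.2 ⟨z, Subgroup.zpowers_le.mpr hx hz⟩
    have hn' : z ^ 2 ^ n = 1 := congrArg Subtype.val hn
    obtain ⟨m, -, hm⟩ := (Nat.dvd_prime_pow Nat.prime_two).mp (orderOf_dvd_of_pow_eq_one hn')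
    obtain ⟨w, hwz, hw⟩ : ∃ w ∈ Subgroup.zpowers z, orderOf w = 2 := by
      have hm0 : 1 ≤ m := by
        by_contra h0
        rw [show m = 0 by omega, pow_zero] at hm
        exact hz1 (orderOf_eq_one_iff.mp hm)
      refine ⟨z ^ 2 ^ (m - 1), Subgroup.npow_mem_zpowers z _, ?_⟩
      rw [orderOf_pow_of_dvd (pow_ne_zero _ two_ne_zero) (hm ▸ pow_dvd_pow 2 (by omega)), hm,
        Nat.pow_div (by omega) two_pos, show m - (m - 1) = 1 by omega, pow_one]
    exact hsne ((involution_unique hs₁o hw hs₁x (Subgroup.zpowers_le.mpr hz₁ hwz)).trans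
      (involution_unique hw hs (Subgroup.zpowers_le.mpr hz hwz) hsx))
  -- everything in `D` normalises `⟨x⟩` and `⟨x₁⟩`
  have hnx : ∀ d ∈ D, d * x * d⁻¹ ∈ Subgroup.zpowers x := fun d hd =>
    h.conj_mem hs hsx (Subgroup.mem_zpowers x) hd.2
  have hnx₁ : ∀ d ∈ D, d * x₁ * d⁻¹ ∈ Subgroup.zpowers x₁ := fun d hd => by
    refine h.conj_mem hs₁o hs₁x (Subgroup.mem_zpowers _) (mem_C.mpr ?_)
    have hd' : a⁻¹ * d * a ∈ D := (han _).mpr (by simpa [mul_assoc] using hd)
    calc d * s₁ = a * ((a⁻¹ * d * a) * s) * a⁻¹ := by rw [hs₁]; group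
      _ = a * (s * (a⁻¹ * d * a)) * a⁻¹ := by rw [mem_C.mp hd'.2]
      _ = s₁ * d := by rw [hs₁]; group
  have hxx₁ : Commute x x₁ := by
    have h1 : x * x₁ * x⁻¹ * x₁⁻¹ ∈ Subgroup.zpowers x := by
      rw [show x * x₁ * x⁻¹ * x₁⁻¹ = x * (x₁ * x * x₁⁻¹)⁻¹ by group]
      exact mul_mem (Subgroup.mem_zpowers x) (inv_mem (hnx x₁ hx₁D))
    have h2 : x * x₁ * x⁻¹ * x₁⁻¹ ∈ Subgroup.zpowers x₁ :=
      mul_mem (hnx₁ x hxD) (inv_mem (Subgroup.mem_zpowers _))
    exact mul_inv_eq_iff_eq_mul.mp (mul_inv_eq_one.mp (hdisj _ h1 h2))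
  obtain ⟨i, hi⟩ := Subgroup.mem_zpowers_iff.mp (hnx _ ha2)
  have hax₁ : a * x₁ * a⁻¹ = x ^ i := by rw [hi, hx₁]; group
  -- `y = x x₁` has its involution fixed by `a`
  set y := x * x₁ with hy
  have hyi : y ^ i₀ = s * s₁ := by
    rw [hy, hxx₁.mul_zpow, hi₀, hx₁, conj_zpow, hi₀]
  have hcs : Commute s s₁ := hi₀ ▸ (show (s₁ : G) = x₁ ^ i₀ by rw [hx₁, conj_zpow, hi₀]) ▸
    hxx₁.zpow_zpow i₀ i₀
  have hyo : orderOf (s * s₁) = 2 := by
    refine orderOf_eq_prime ?_ fun he => hsne ?_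
    · rw [hcs.mul_pow, sq, sq, mul_self_of_orderOf hs, mul_self_of_orderOf hs₁o, one_mul]
    · exact mul_left_cancel (he.trans (mul_self_of_orderOf hs).symm)
  have has₁ : a * s₁ * a⁻¹ = s := by
    have h1 := mem_C.mp ha2.2
    calc a * s₁ * a⁻¹ = (a * a) * s * (a * a)⁻¹ := by rw [hs₁]; group
      _ = s := by rw [h1, mul_inv_cancel_right]
  have hay : a * y * a⁻¹ ∈ Subgroup.zpowers y := by
    refine h.conj_mem hyo (Subgroup.mem_zpowers_iff.mpr ⟨i₀, hyi⟩) (Subgroup.mem_zpowers y) ?_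
    refine mem_C.mpr (mul_inv_eq_iff_eq_mul.mp ?_)
    rw [show a * (s * s₁) * a⁻¹ = (a * s * a⁻¹) * (a * s₁ * a⁻¹) by group, ← hs₁, has₁, hcs.eq]
  obtain ⟨j, hj⟩ := Subgroup.mem_zpowers_iff.mp hay
  have hix : x ^ i = x := by
    rw [show a * y * a⁻¹ = x₁ * x ^ i by rw [← hax₁, hy, hx₁]; group, hy, hxx₁.mul_zpow] at hj
    have h1 : x₁ ^ j * x₁⁻¹ = (x ^ j)⁻¹ * x ^ i := by
      rw [show x₁ ^ j * x₁⁻¹ = (x ^ j)⁻¹ * (x ^ j * x₁ ^ j) * x₁⁻¹ by group, hj,
        show (x ^ j)⁻¹ * (x₁ * x ^ i) * x₁⁻¹ = (x ^ j)⁻¹ * (x₁ * x ^ i * x₁⁻¹) by group,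
        ← (hxx₁.zpow_left i).eq, mul_inv_cancel_right]
    have h2 : x₁ ^ j * x₁⁻¹ = 1 := hdisj _
      (h1 ▸ mul_mem (inv_mem (Subgroup.zpow_mem_zpowers x j)) (Subgroup.zpow_mem_zpowers x i))
      (mul_mem (Subgroup.zpow_mem_zpowers x₁ j) (inv_mem (Subgroup.mem_zpowers x₁)))
    have h3 : x ^ j = x ^ i := inv_mul_eq_one.mp (h1 ▸ h2)
    have h4 : a * x ^ j * a⁻¹ = a * x * a⁻¹ := by
      rw [← conj_zpow, ← hx₁]; exact mul_inv_eq_one.mp h2
    rw [← h3]
    exact mul_left_cancel (mul_right_cancel h4)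
  rw [hix] at hax₁
  have hxa2 : Commute x (a * a) := by
    have : (a * a) * x * (a * a)⁻¹ = x := by rw [← hi, hix]
    exact (mul_inv_eq_iff_eq_mul.mp this).symm
  -- the element `v = x a`
  set v := x * a with hvdef
  set c := a * a with hc
  have hx₁c : Commute x₁ c := by
    have := (hxa2.map (MulAut.conj a).toMonoidHom)
    simpa [hx₁, hc, mul_assoc] using this
  have hv2 : v * v = x * x₁ * c := by rw [hvdef, hx₁, hc]; group
  have hcomm : Commute x (v * v) := hv2 ▸ ((Commute.refl x).mul_right hxx₁).mul_right hxa2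
  obtain ⟨d, hd, hdo⟩ : ∃ d ∈ Subgroup.zpowers (v * v), orderOf d = 2 := by
    have hvT : v * v ∈ (T : Subgroup G) := mul_mem (mul_mem hx haT) (mul_mem hx haT)
    obtain ⟨n, hn⟩ := T.2 ⟨_, hvT⟩
    have hn' : (v * v) ^ 2 ^ n = 1 := congrArg Subtype.val hn
    obtain ⟨m, -, hm⟩ := (Nat.dvd_prime_pow Nat.prime_two).mp (orderOf_dvd_of_pow_eq_one hn')
    have hm0 : 1 ≤ m := by
      by_contra h0
      rw [show m = 0 by omega, pow_zero] at hm
      exact hv (orderOf_eq_one_iff.mp hm)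
    refine ⟨(v * v) ^ 2 ^ (m - 1), Subgroup.npow_mem_zpowers _ _, ?_⟩
    rw [orderOf_pow_of_dvd (pow_ne_zero _ two_ne_zero) (hm ▸ pow_dvd_pow 2 (by omega)), hm,
      Nat.pow_div (by omega) two_pos, show m - (m - 1) = 1 by omega, pow_one]
  have hdv : d ∈ Subgroup.zpowers v :=
    Subgroup.zpowers_le.mpr (mul_mem (Subgroup.mem_zpowers v) (Subgroup.mem_zpowers v)) hd
  have hxd : x ∈ C d := by
    obtain ⟨l, rfl⟩ := Subgroup.mem_zpowers_iff.mp hd
    exact mem_C.mpr (hcomm.zpow_right l).eq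
  obtain ⟨k, hk⟩ := Subgroup.mem_zpowers_iff.mp (h.conj_mem hdo hdv (Subgroup.mem_zpowers v) hxd)
  have hax : a * x⁻¹ = x₁⁻¹ * a := by rw [hx₁]; group
  have hk' : x * x * x₁⁻¹ * a = v ^ k := by
    rw [hk, hvdef, show x * (x * a) * x⁻¹ = x * x * (a * x⁻¹) by group, hax, mul_assoc (x * x)]
  rcases Int.even_or_odd k with ⟨l, rfl⟩ | ⟨l, rfl⟩
  · refine haD ?_
    have hvD : (v * v) ^ l ∈ D :=
      Subgroup.zpow_mem _ (hv2 ▸ mul_mem (mul_mem hxD hx₁D) ha2) l
    rw [zpow_add, ← (Commute.refl v).mul_zpow] at hk'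
    rw [← hk'] at hvD
    have := mul_mem (inv_mem (mul_mem (mul_mem hxD hxD) (inv_mem hx₁D))) hvD
    rwa [inv_mul_cancel_left] at this
  · have hcomb : x * x₁⁻¹ = (x * x₁) ^ l * c ^ l := by
      have e1 : x * x * x₁⁻¹ * a = (x * x₁ * c) ^ l * x * a := by
        rw [hk', zpow_add_one, zpow_mul, zpow_two, hv2, hvdef, ← mul_assoc]
      have e2 : x * x * x₁⁻¹ = (x * x₁ * c) ^ l * x := mul_right_cancel e1
      rw [mul_assoc x x, (hxx₁.inv_right).eq, ← mul_assoc] at e2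
      rw [mul_right_cancel e2, (hxa2.mul_left hx₁c).mul_zpow]
    have hcomb' : a * (x * x₁⁻¹) * a⁻¹ = a * ((x * x₁) ^ l * c ^ l) * a⁻¹ := by rw [hcomb]
    rw [show a * (x * x₁⁻¹) * a⁻¹ = (a * x * a⁻¹) * (a * x₁ * a⁻¹)⁻¹ by group, hax₁, ← hx₁,
      show a * ((x * x₁) ^ l * c ^ l) * a⁻¹ = (a * (x * x₁) ^ l * a⁻¹) * (a * c ^ l * a⁻¹) by group,
      ← conj_zpow, ← conj_zpow, show a * (x * x₁) * a⁻¹ = (a * x * a⁻¹) * (a * x₁ * a⁻¹) by group,
      hax₁, ← hx₁, show a * c * a⁻¹ = c by rw [hc]; group, ← hxx₁.eq, ← hcomb] at hcomb'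
    have h1 : x * x = x₁ * x₁ := by
      have e1 := mul_inv_eq_iff_eq_mul.mp hcomb'
      rw [mul_assoc, (hxx₁.inv_right).symm.eq, ← mul_assoc] at e1
      have e2 : x₁ = x * x * x₁⁻¹ := e1
      exact (eq_mul_inv_iff_mul_eq.mp e2).symm
    exact hx2 (hdisj _ (mul_mem (Subgroup.mem_zpowers x) (Subgroup.mem_zpowers x))
      (h1 ▸ mul_mem (Subgroup.mem_zpowers x₁) (Subgroup.mem_zpowers x₁)))

/-- Elements of order at least `4` of a Sylow `2`-subgroup generate normal subgroups of it. -/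
theorem Hyp.conj_mem_sylow (T : Sylow 2 G) {x y : G} (hx : x ∈ (T : Subgroup G)) (hx2 : x * x ≠ 1)
    (hy : y ∈ (T : Subgroup G)) : y * x * y⁻¹ ∈ Subgroup.zpowers x := by
  haveI := Fact.mk Nat.prime_two
  obtain ⟨n, hn⟩ := T.2 ⟨x, hx⟩
  have hn' : x ^ 2 ^ n = 1 := congrArg Subtype.val hn
  obtain ⟨m, -, hm⟩ := (Nat.dvd_prime_pow Nat.prime_two).mp (orderOf_dvd_of_pow_eq_one hn')
  have hm0 : 1 ≤ m := by
    by_contra h0
    rw [show m = 0 by omega, pow_zero] at hm
    exact hx2 (by rw [orderOf_eq_one_iff.mp hm, one_mul])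
  have hw : orderOf (x ^ 2 ^ (m - 1)) = 2 := by
    rw [orderOf_pow_of_dvd (pow_ne_zero _ two_ne_zero) (hm ▸ pow_dvd_pow 2 (by omega)), hm,
      Nat.pow_div (by omega) two_pos, show m - (m - 1) = 1 by omega, pow_one]
  exact h.conj_mem hw (Subgroup.npow_mem_zpowers x _) (Subgroup.mem_zpowers x)
    (mem_C.mpr (h.square_involution_central T hx hx2 hw (Subgroup.npow_mem_zpowers x _) y hy).symm.eq)

end CfsgLib.CyclicNorm
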