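import Cfsg.Agent.Lib.CyclicNorm.Shape
import Cfsg.Agent.Lib.LocEven.SubnormalSylow
import Cfsg.Agent.Lib.PSL2Sub.Small
import Cfsg.Agent.Lib.Zassenhaus.Setting
import Cfsg.Agent.Lib.Linear.Card
import Cfsg.Agent.S0508

/-!
# The dihedral case: the socle is `PSL₂(q)`

If the Sylow `2`-subgroup has dihedral shape then a minimal normal subgroup is simple, has trivial
centraliser and index at most `2`, and is isomorphic to `PSL₂(q)`, `q` odd.
-/

set_option autoImplicit false
set_option linter.unusedSectionVars false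
set_option linter.style.haveILetI false

open scoped Pointwise

namespace CfsgLib.CyclicNorm

/-- A group with trivial centre and core contains two commuting involutions. -/
theorem exists_two_involutions {K : Type*} [Group K] [Finite K] [Nontrivial K]
    (hcore : Cfsg.pPrimeCore 2 K = ⊥) (hcen : Subgroup.center K = ⊥) :
    ∃ x y : K, orderOf x = 2 ∧ orderOf y = 2 ∧ x ≠ y ∧ Commute x y := by
  haveI := Fact.mk Nat.prime_two
  have hodd : ∀ N : Subgroup K, N.Normal → Odd (Nat.card N) → N = ⊥ := fun N hN hNo =>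
    le_bot_iff.1 (hcore ▸ CfsgLib.Solvable.le_pPrimeCore hN (Nat.coprime_two_right.2 hNo))
  have heven : Even (Nat.card K) := by
    by_contra ho
    have := hodd ⊤ inferInstance (by rw [Subgroup.card_top]; exact Nat.not_even_iff_odd.1 ho)
    exact (top_ne_bot : (⊤ : Subgroup K) ≠ ⊥) this
  by_contra hno
  obtain ⟨z, hz, N, hN, hNo, hzN⟩ := CfsgLib.Invol.exists_central_mod_core heven fun E hE => by
    obtain ⟨x, hx⟩ : ∃ x : E, x ≠ 1 := by
      have : Nontrivial E := Finite.one_lt_card_iff_nontrivial.1 (by rw [hE.card_four]; norm_num)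
      exact exists_ne 1
    obtain ⟨y, hy1, hyx⟩ : ∃ y : E, y ≠ 1 ∧ y ≠ x := by
      classical
      haveI := Fintype.ofFinite E
      by_contra hh
      push Not at hh
      have h2 : (Finset.univ : Finset E) ⊆ {1, x} := fun y _ => by
        by_cases hy : y = 1
        · simp [hy]
        · simp [hh y hy]
      have h3 := (Finset.card_le_card h2).trans Finset.card_le_two
      rw [Finset.card_univ, ← Nat.card_eq_fintype_card, hE.card_four] at h3
      omega
    have hsq : ∀ e : E, e * e = 1 := fun e => by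
      rw [← pow_two, ← hE.exponent_two]; exact Monoid.pow_exponent_eq_one e
    refine hno ⟨x, y, ?_, ?_, fun he => hyx (Subtype.ext he).symm, ?_⟩
    · rw [Subgroup.orderOf_coe]; exact orderOf_eq_prime (by rw [pow_two, hsq]) hx
    · rw [Subgroup.orderOf_coe]; exact orderOf_eq_prime (by rw [pow_two, hsq]) hy1
    · exact congrArg Subtype.val (hE.isMulCommutative.is_comm.comm x y)
  rw [hodd N hN hNo] at hzN
  have hzc : z ∈ Subgroup.center K := Subgroup.mem_center_iff.2 fun g => by
    have := Subgroup.mem_bot.1 (hzN g)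
    exact (mul_inv_eq_iff_eq_mul.1 (mul_inv_eq_one.1 this)).symm
  rw [hcen, Subgroup.mem_bot] at hzc
  exact ne_one_of_orderOf hz hzc

variable {G : Type*} [Group G] [Finite G] {h : Hyp G} {T : Sylow 2 G} {z a : G}

theorem Dih.z_mem (D : Dih h T z a) : z ∈ (T : Subgroup G) := Subgroup.zpowers_le.mpr D.mem D.za

theorem Dih.sq_in (D : Dih h T z a) {x : G} (hx : x ∈ Subgroup.zpowers a) (hx2 : x * x = 1) :
    x = 1 ∨ x = z := by
  by_cases hx1 : x = 1
  · exact Or.inl hx1
  haveI := Fact.mk Nat.prime_two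
  exact Or.inr (involution_unique (orderOf_eq_prime (by rw [pow_two, hx2]) hx1) D.ord hx D.za)

theorem Dih.inv_zpow (D : Dih h T z a) {y x : G} (hy : y ∈ (T : Subgroup G))
    (hyA : y ∉ Subgroup.zpowers a) (hx : x ∈ Subgroup.zpowers a) : y * x * y⁻¹ = x⁻¹ := by
  obtain ⟨i, rfl⟩ := Subgroup.mem_zpowers_iff.mp hx
  rw [← conj_zpow, D.inv y hy hyA, _root_.inv_zpow]

theorem Dih.cen (D : Dih h T z a) {y : G} (hy : y ∈ (T : Subgroup G)) : Commute z y := by
  by_cases hyA : y ∈ Subgroup.zpowers a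
  · obtain ⟨i, rfl⟩ := Subgroup.mem_zpowers_iff.mp hyA
    obtain ⟨j, hj⟩ := Subgroup.mem_zpowers_iff.mp D.za
    exact hj ▸ Commute.zpow_zpow_self a j i
  · have := D.inv_zpow hy hyA D.za
    rw [inv_eq_of_mul_eq_one_left (mul_self_of_orderOf D.ord)] at this
    exact (mul_inv_eq_iff_eq_mul.mp this).symm

theorem Dih.le_C (D : Dih h T z a) : (T : Subgroup G) ≤ C z := fun _ hy =>
  mem_C.mpr (D.cen hy).symm.eq

/-- There are no three independent commuting involutions. -/
theorem Dih.no_three (D : Dih h T z a) {x y w : G} (hx : orderOf x = 2) (hy : orderOf y = 2)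
    (hw : orderOf w = 2) (hxy : Commute x y) (hxw : Commute x w) (hyw : Commute y w) (hne : x ≠ y)
    (h1 : w ≠ x) (h2 : w ≠ y) (h3 : w ≠ x * y) : False := by
  haveI := Fact.mk Nat.prime_two
  have hp1 : IsPGroup 2 ↥(Subgroup.zpowers x ⊔ Subgroup.zpowers y) := by
    refine IsPGroup.to_sup_of_normal_right' (IsPGroup.of_card (n := 1) (by rw [Nat.card_zpowers, hx, pow_one]))
      (IsPGroup.of_card (n := 1) (by rw [Nat.card_zpowers, hy, pow_one])) (Subgroup.zpowers_le.mpr ?_)
    rw [Subgroup.mem_normalizer_iff]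
    intro v
    constructor
    · intro hv
      obtain ⟨i, rfl⟩ := Subgroup.mem_zpowers_iff.mp hv
      rwa [(hxy.zpow_right i).eq, mul_inv_cancel_right]
    · intro hv
      obtain ⟨i, hi⟩ := Subgroup.mem_zpowers_iff.mp hv
      have : v = y ^ i := by
        rw [show v = x⁻¹ * (x * v * x⁻¹) * x by group, ← hi, (hxy.zpow_right i).inv_left.eq,
          inv_mul_cancel_right]
      exact this ▸ Subgroup.zpow_mem_zpowers y i
  have hp : IsPGroup 2 ↥(Subgroup.zpowers w ⊔ (Subgroup.zpowers x ⊔ Subgroup.zpowers y)) := by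
    refine IsPGroup.to_sup_of_normal_right' (IsPGroup.of_card (n := 1) (by rw [Nat.card_zpowers, hw, pow_one]))
      hp1 (Subgroup.zpowers_le.mpr ?_)
    have hc : Subgroup.zpowers x ⊔ Subgroup.zpowers y ≤ C w :=
      sup_le (Subgroup.zpowers_le.mpr (mem_C.mpr hxw.eq)) (Subgroup.zpowers_le.mpr (mem_C.mpr hyw.eq))
    rw [Subgroup.mem_normalizer_iff]
    intro v
    have key : ∀ v ∈ Subgroup.zpowers x ⊔ Subgroup.zpowers y, w * v * w⁻¹ = v := fun v hv => by
      rw [← mem_C.mp (hc hv), mul_inv_cancel_right]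
    constructor
    · intro hv; rwa [key v hv]
    · intro hv
      have := key _ hv
      rwa [mul_left_cancel (mul_right_cancel this)] at hv
  obtain ⟨P, hP⟩ := hp.exists_le_sylow
  obtain ⟨k, hk⟩ := MulAction.exists_smul_eq G P T
  have hmem : ∀ v ∈ (P : Subgroup G), k * v * k⁻¹ ∈ (T : Subgroup G) := fun v hv => by
    have : k * v * k⁻¹ ∈ (k • P : Sylow 2 G) := (CfsgLib.Transfer.mem_sylow_smul_iff k P _).mpr (by
      rwa [show k⁻¹ * (k * v * k⁻¹) * k = v by group])
    rwa [hk] at this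
  set f := (MulAut.conj k).toMonoidHom
  have hfT : ∀ v ∈ (P : Subgroup G), f v ∈ (T : Subgroup G) := hmem
  have hxT := hfT x (hP (Subgroup.mem_sup_right (Subgroup.mem_sup_left (Subgroup.mem_zpowers x))))
  have hyT := hfT y (hP (Subgroup.mem_sup_right (Subgroup.mem_sup_right (Subgroup.mem_zpowers y))))
  have hwT := hfT w (hP (Subgroup.mem_sup_left (Subgroup.mem_zpowers w)))
  have hf : Function.Injective f := (MulAut.conj k).injective
  have hinA : ∀ v, orderOf v = 2 → f v ∈ Subgroup.zpowers a → f v = z := fun v hv hA =>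
    (D.sq_in hA (by rw [← map_mul, mul_self_of_orderOf hv, map_one])).resolve_left fun he =>
      ne_one_of_orderOf hv (hf (he.trans (map_one f).symm))
  by_cases hxA : f x ∈ Subgroup.zpowers a <;> by_cases hyA : f y ∈ Subgroup.zpowers a
  · exact hne (hf ((hinA x hx hxA).trans (hinA y hy hyA).symm))
  · by_cases hwA : f w ∈ Subgroup.zpowers a
    · exact h1 (hf ((hinA w hw hwA).trans (hinA x hx hxA).symm))
    · have h4 := hinA _ (mul_ne_and_ord hy hw (Ne.symm h2) hyw)
        (by rw [map_mul]; exact D.idx _ hyT _ hwT hyA hwA)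
      have h5 : y * w = x := hf (h4.trans (hinA x hx hxA).symm)
      exact h3 (by rw [← h5, mul_assoc, ← hyw.eq, ← mul_assoc, mul_self_of_orderOf hy, one_mul])
  · by_cases hwA : f w ∈ Subgroup.zpowers a
    · exact h2 (hf ((hinA w hw hwA).trans (hinA y hy hyA).symm))
    · have h4 := hinA _ (mul_ne_and_ord hx hw (Ne.symm h1) hxw)
        (by rw [map_mul]; exact D.idx _ hxT _ hwT hxA hwA)
      have h5 : x * w = y := hf (h4.trans (hinA y hy hyA).symm)
      exact h3 (by rw [← h5, ← mul_assoc, mul_self_of_orderOf hx, one_mul])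
  · have h4 := hinA _ (mul_ne_and_ord hx hy hne hxy)
      (by rw [map_mul]; exact D.idx _ hxT _ hyT hxA hyA)
    by_cases hwA : f w ∈ Subgroup.zpowers a
    · exact h3 (hf ((hinA w hw hwA).trans h4.symm))
    · have h5 := hinA _ (mul_ne_and_ord hx hw (Ne.symm h1) hxw)
        (by rw [map_mul]; exact D.idx _ hxT _ hwT hxA hwA)
      exact h2 (mul_left_cancel (hf (h5.trans h4.symm)))

/-- A minimal normal subgroup is simple and has trivial centraliser. -/
theorem Dih.exists_simple (D : Dih h T z a) :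
    ∃ N : Subgroup G, N.Normal ∧ IsSimpleGroup ↥N ∧ Subgroup.center ↥N = ⊥ ∧
      Cfsg.pPrimeCore 2 ↥N = ⊥ ∧ Subgroup.centralizer (N : Set G) = ⊥ := by
  haveI := Fact.mk Nat.prime_two
  have hne : (⊤ : Subgroup G) ≠ ⊥ := fun he => by
    have : z ∈ (⊤ : Subgroup G) := Subgroup.mem_top z
    rw [he, Subgroup.mem_bot] at this
    exact ne_one_of_orderOf D.ord this
  obtain ⟨N, -, hNmin⟩ := (Set.toFinite {N : Subgroup G | N.Normal ∧ N ≠ ⊥}).exists_le_minimal
    (a := ⊤) ⟨inferInstance, hne⟩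
  obtain ⟨hN, hN1⟩ := hNmin.prop
  haveI := hN
  have hfit : ∀ K : Subgroup ↥N, K.Normal → Group.IsNilpotent ↥K → K = ⊥ := by
    intro K hK hnil
    have hKF := CfsgLib.Solvable.le_fittingSubgroup hK hnil
    haveI := CfsgLib.Solvable.fittingSubgroup_characteristic ↥N
    haveI := CfsgLib.Solvable.fittingSubgroup_isNilpotent ↥N
    have := h.rad _ (inferInstance : ((Cfsg.fittingSubgroup ↥N).map N.subtype).Normal)
      (Group.isSolvable_of_surjective (f := ((Cfsg.fittingSubgroup ↥N).equivMapOfInjective N.subtype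
        N.subtype_injective).toMonoidHom) (MulEquiv.surjective _))
    rw [Subgroup.map_eq_bot_iff_of_injective _ N.subtype_injective] at this
    exact le_bot_iff.1 (this ▸ hKF)
  have hcen : Subgroup.center ↥N = ⊥ := by
    refine hfit _ inferInstance ?_
    letI : CommGroup ↥(Subgroup.center ↥N) :=
      { (inferInstance : Group ↥(Subgroup.center ↥N)) with
        mul_comm := fun p q => Subtype.ext (Subgroup.mem_center_iff.1 q.2 p) }
    infer_instance
  have hcoreN : Cfsg.pPrimeCore 2 ↥N = ⊥ := by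
    haveI := CfsgLib.Solvable.pPrimeCore_characteristic 2 ↥N
    have := h.odd_normal D.ord _ (inferInstance : ((Cfsg.pPrimeCore 2 ↥N).map N.subtype).Normal) (by
      rw [Subgroup.card_subtype]
      exact Nat.coprime_two_right.1 (CfsgLib.Solvable.pPrimeCore_card_coprime 2 ↥N))
    rwa [Subgroup.map_eq_bot_iff_of_injective _ N.subtype_injective] at this
  haveI : Nontrivial ↥N := (Subgroup.nontrivial_iff_ne_bot N).2 hN1
  refine ⟨N, hN, ?_, hcen, hcoreN, ?_⟩
  · refine { eq_bot_or_eq_top_of_normal := fun K hK => ?_ }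
    by_contra hKbad
    push Not at hKbad
    obtain ⟨hK1, hKtop⟩ := hKbad
    obtain ⟨M, hMK, hMmin⟩ := (Set.toFinite {M : Subgroup ↥N | M.Normal ∧ M ≠ ⊥}).exists_le_minimal
      (a := K) ⟨hK, hK1⟩
    obtain ⟨hM, hM1⟩ := hMmin.prop
    haveI := hM
    have hMtop : M ≠ ⊤ := fun he => hKtop (top_le_iff.1 (he ▸ hMK))
    obtain ⟨g, m, hm, hgm⟩ : ∃ g : G, ∃ m ∈ M, MulAut.conjNormal g m ∉ M := by
      by_contra hall
      push Not at hall
      have hn : (M.map N.subtype).Normal := by
        refine ⟨fun x hx g => ?_⟩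
        obtain ⟨m, hm, rfl⟩ := Subgroup.mem_map.1 hx
        exact Subgroup.mem_map.2 ⟨_, hall g m hm, MulAut.conjNormal_apply g m⟩
      have hle : M.map N.subtype ≤ N := Subgroup.map_subtype_le M
      have := hNmin.le_of_le ⟨hn, fun he => hM1
        ((Subgroup.map_eq_bot_iff_of_injective _ N.subtype_injective).1 he)⟩ hle
      refine hMtop (eq_top_iff.2 fun v _ => ?_)
      obtain ⟨v', hv', he⟩ := Subgroup.mem_map.1 (this v.2)
      exact Subtype.ext he ▸ hv'
    set M' := M.map (MulAut.conjNormal g : ↥N ≃* ↥N).toMonoidHom with hM'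
    haveI : M'.Normal := hM.map _ (MulEquiv.surjective _)
    have hdis : M ⊓ M' = ⊥ := by
      by_contra hd
      have hle : M ≤ M' := (hMmin.le_of_le ⟨inferInstance, hd⟩ inf_le_left).trans inf_le_right
      have hcard : Nat.card M' = Nat.card M :=
        Nat.card_congr (M.equivMapOfInjective _ (MulEquiv.injective _)).toEquiv.symm
      have := Subgroup.eq_of_le_of_card_ge hle hcard.le
      exact hgm (this.symm ▸ Subgroup.mem_map.2 ⟨m, hm, rfl⟩)
    haveI : Nontrivial ↥M := (Subgroup.nontrivial_iff_ne_bot M).2 hM1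
    have hcoreM : Cfsg.pPrimeCore 2 ↥M = ⊥ := by
      haveI := CfsgLib.Solvable.pPrimeCore_characteristic 2 ↥M
      have := CfsgLib.Solvable.le_pPrimeCore
        (inferInstance : ((Cfsg.pPrimeCore 2 ↥M).map M.subtype).Normal) (p := 2) (by
          rw [Subgroup.card_subtype]
          exact CfsgLib.Solvable.pPrimeCore_card_coprime 2 ↥M)
      rw [hcoreN, le_bot_iff, Subgroup.map_eq_bot_iff_of_injective _ M.subtype_injective] at this
      exact this
    have hcenM : Subgroup.center ↥M = ⊥ := by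
      have hn : Group.IsNilpotent ↥((Subgroup.center ↥M).map M.subtype) := by
        letI : CommGroup ↥((Subgroup.center ↥M).map M.subtype) :=
          { (inferInstance : Group ↥((Subgroup.center ↥M).map M.subtype)) with
            mul_comm := fun p q => Subtype.ext (by
              obtain ⟨p', -, hp⟩ := Subgroup.mem_map.1 p.2
              obtain ⟨q', hq', hq⟩ := Subgroup.mem_map.1 q.2
              rw [Subgroup.coe_mul, Subgroup.coe_mul, ← hp, ← hq, ← map_mul, ← map_mul,
                Subgroup.mem_center_iff.1 hq' p']) }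
        infer_instance
      have := hfit _ inferInstance hn
      rwa [Subgroup.map_eq_bot_iff_of_injective _ M.subtype_injective] at this
    obtain ⟨x, y, hx, hy, hxy, hc⟩ := exists_two_involutions hcoreM hcenM
    set w : ↥N := MulAut.conjNormal g (x : ↥N) with hw
    have hwM' : w ∈ M' := Subgroup.mem_map.2 ⟨x, x.2, rfl⟩
    have hw2 : orderOf (w : G) = 2 := by
      rw [hw, Subgroup.orderOf_coe, MulEquiv.orderOf_eq, Subgroup.orderOf_coe, hx]
    have hcomm : ∀ v : ↥M, Commute (v : ↥N) w := fun v =>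
      Subgroup.commute_of_normal_of_disjoint _ _ hM ‹M'.Normal› (disjoint_iff.2 hdis) _ _ v.2 hwM'
    have hnot : ∀ v : ↥M, (w : G) ≠ ((v : ↥N) : G) := fun v he => by
      have h1 : w = (v : ↥N) := Subtype.ext he
      have h2 : w ∈ M ⊓ M' := ⟨h1 ▸ v.2, hwM'⟩
      rw [hdis, Subgroup.mem_bot] at h2
      exact ne_one_of_orderOf hw2 (by rw [h2]; rfl)
    exact D.no_three (x := ((x : ↥N) : G)) (y := ((y : ↥N) : G)) (w := (w : G))
      (by rw [Subgroup.orderOf_coe, Subgroup.orderOf_coe, hx])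
      (by rw [Subgroup.orderOf_coe, Subgroup.orderOf_coe, hy]) hw2
      (congrArg (fun v : ↥M => ((v : ↥N) : G)) hc.eq) (congrArg Subtype.val (hcomm x).eq)
      (congrArg Subtype.val (hcomm y).eq) (fun he => hxy (Subtype.ext (Subtype.ext he)))
      (hnot x) (hnot y) (hnot (x * y))
  · by_contra hC
    set K := Subgroup.centralizer (N : Set G) with hK
    have hev : Even (Nat.card ↥K) := by
      by_contra ho
      exact hC (h.odd_normal D.ord K inferInstance (Nat.not_even_iff_odd.1 ho))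
    obtain ⟨w, hw⟩ := exists_prime_orderOf_dvd_card' (G := ↥K) 2 (even_iff_two_dvd.1 hev)
    obtain ⟨x, y, hx, hy, hxy, hc⟩ := exists_two_involutions hcoreN hcen
    have hwN : ∀ v : ↥N, Commute ((v : G)) (w : G) := fun v => (w.2 v v.2)
    have hnot : ∀ v : ↥N, (w : G) ≠ (v : G) := fun v he => by
      have : v ∈ Subgroup.center ↥N := Subgroup.mem_center_iff.2 fun u => Subtype.ext (by
        rw [Subgroup.coe_mul, Subgroup.coe_mul, ← he]; exact (hwN u).eq)
      rw [hcen, Subgroup.mem_bot] at this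
      rw [this] at he
      rw [← Subgroup.orderOf_coe, he] at hw
      simp at hw
    exact D.no_three (x := (x : G)) (y := (y : G)) (w := (w : G))
      (by rw [Subgroup.orderOf_coe, hx]) (by rw [Subgroup.orderOf_coe, hy])
      (by rw [Subgroup.orderOf_coe, hw]) (congrArg Subtype.val hc.eq) (hwN x) (hwN y)
      (fun he => hxy (Subtype.ext he)) (hnot x) (hnot y) (hnot (x * y))

/-- The socle is `PSL₂(q)` of index at most two. -/
theorem Dih.exists_psl (D : Dih h T z a) :
    ∃ (N : Subgroup G) (s : G) (F : Type) (_ : Field F) (_ : Fintype F), N.Normal ∧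
      Odd (Fintype.card F) ∧ 3 < Fintype.card F ∧ Subgroup.centralizer (N : Set G) = ⊥ ∧
      Nonempty (↥N ≃* Matrix.ProjectiveSpecialLinearGroup (Fin 2) F) ∧
      (N = ⊤ ∨ (orderOf s = 2 ∧ s ∉ N ∧ ∀ g : G, g ∈ N ∨ g * s ∈ N)) := by
  haveI := Fact.mk Nat.prime_two
  obtain ⟨N, hN, hsimp, hcen, hcoreN, hCN⟩ := D.exists_simple
  haveI := hN
  haveI := hsimp
  obtain ⟨SN, hSN⟩ := CfsgLib.LocEven.exists_sylow_eq_inf T hN.isSubnormal
  have memSN : ∀ v : ↥N, v ∈ (SN : Subgroup ↥N) ↔ (v : G) ∈ (T : Subgroup G) := fun v => by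
    rw [hSN, Subgroup.mem_subgroupOf]
  -- `z` and an element outside `⟨a⟩` lie in `N`
  obtain ⟨hzN, b, hbN, hbT, hbA⟩ : z ∈ N ∧ ∃ b ∈ N, b ∈ (T : Subgroup G) ∧ b ∉ Subgroup.zpowers a := by
    obtain ⟨x, y, hx, hy, hxy, hc⟩ := exists_two_involutions hcoreN hcen
    have hp : IsPGroup 2 ↥(Subgroup.zpowers x ⊔ Subgroup.zpowers y) := by
      refine IsPGroup.to_sup_of_normal_right'
        (IsPGroup.of_card (n := 1) (by rw [Nat.card_zpowers, hx, pow_one]))
        (IsPGroup.of_card (n := 1) (by rw [Nat.card_zpowers, hy, pow_one]))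
        ((Subgroup.zpowers_le.mpr ?_).trans (Subgroup.centralizer_le_normalizer _))
      intro v hv
      obtain ⟨i, rfl⟩ := Subgroup.mem_zpowers_iff.mp hv
      exact (hc.zpow_right i).symm.eq
    obtain ⟨P, hP⟩ := hp.exists_le_sylow
    obtain ⟨k, hk⟩ := MulAction.exists_smul_eq ↥N P SN
    have hmem : ∀ v ∈ (P : Subgroup ↥N), ((k * v * k⁻¹ : ↥N) : G) ∈ (T : Subgroup G) := by
      intro v hv
      have : k * v * k⁻¹ ∈ (k • P : Sylow 2 ↥N) := (CfsgLib.Transfer.mem_sylow_smul_iff k P _).mpr (by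
        rwa [show k⁻¹ * (k * v * k⁻¹) * k = v by group])
      rw [hk] at this
      exact (memSN _).1 this
    set p : G := ((k * x * k⁻¹ : ↥N) : G) with hpdef
    set q : G := ((k * y * k⁻¹ : ↥N) : G) with hqdef
    have hpT : p ∈ (T : Subgroup G) := hmem x (hP (Subgroup.mem_sup_left (Subgroup.mem_zpowers x)))
    have hqT : q ∈ (T : Subgroup G) := hmem y (hP (Subgroup.mem_sup_right (Subgroup.mem_zpowers y)))
    have hpo : orderOf p = 2 := by rw [hpdef, Subgroup.orderOf_coe, orderOf_conj_eq, hx]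
    have hqo : orderOf q = 2 := by rw [hqdef, Subgroup.orderOf_coe, orderOf_conj_eq, hy]
    have hpq : p ≠ q := fun he => hxy (mul_left_cancel (mul_right_cancel (Subtype.ext he)))
    have hpN : p ∈ N := (k * x * k⁻¹).2
    have hqN : q ∈ N := (k * y * k⁻¹).2
    have hinA : ∀ v, orderOf v = 2 → v ∈ Subgroup.zpowers a → v = z := fun v hv hvA =>
      (D.sq_in hvA (mul_self_of_orderOf hv)).resolve_left (ne_one_of_orderOf hv)
    by_cases hpA : p ∈ Subgroup.zpowers a
    · exact ⟨hinA p hpo hpA ▸ hpN, q, hqN, hqT,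
        fun hqA => hpq ((hinA p hpo hpA).trans (hinA q hqo hqA).symm)⟩
    · refine ⟨?_, p, hpN, hpT, hpA⟩
      by_cases hqA : q ∈ Subgroup.zpowers a
      · exact hinA q hqo hqA ▸ hqN
      · have hcpq : Commute p q := by
          have := congrArg (fun v : ↥N => ((k * v * k⁻¹ : ↥N) : G)) hc.eq
          simpa [hpdef, hqdef, Commute, SemiconjBy, mul_assoc] using this
        exact hinA _ (mul_ne_and_ord hpo hqo hpq hcpq) (D.idx p hpT q hqT hpA hqA) ▸
          N.mul_mem hpN hqN
  set z' : ↥N := ⟨z, hzN⟩ with hz'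
  set b' : ↥N := ⟨b, hbN⟩ with hb'
  have hzA : z ∈ Subgroup.zpowers a := D.za
  have hbb : b * b = 1 := D.sq b hbT hbA
  have hb1 : b⁻¹ = b := inv_eq_of_mul_eq_one_left hbb
  -- `S` is dihedral
  set A' := (((Subgroup.zpowers a).subgroupOf N).subgroupOf (SN : Subgroup ↥N)) with hA'
  have memA' : ∀ v : ↥(SN : Subgroup ↥N), v ∈ A' ↔ ((v : ↥N) : G) ∈ Subgroup.zpowers a := fun v => by
    rw [hA', Subgroup.mem_subgroupOf, Subgroup.mem_subgroupOf]
  have hbS : b' ∈ (SN : Subgroup ↥N) := (memSN _).2 hbT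
  have hidx : A'.index = 2 := by
    rw [Subgroup.index_eq_two_iff]
    refine ⟨⟨b', hbS⟩, fun v => ?_⟩
    rw [memA', memA']
    show Xor (((v : ↥N) : G) * b ∈ Subgroup.zpowers a) (((v : ↥N) : G) ∈ Subgroup.zpowers a)
    by_cases hv : ((v : ↥N) : G) ∈ Subgroup.zpowers a
    · exact Or.inr ⟨hv, fun hm => hbA (by
        simpa using mul_mem (inv_mem hv) hm)⟩
    · exact Or.inl ⟨D.idx _ ((memSN _).1 v.2) b hbT hv hbA, hv⟩
  have hcyc : IsCyclic ↥A' := by
    let φ : ↥A' →* ↥(Subgroup.zpowers a) :=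
      { toFun := fun v => ⟨((v : ↥(SN : Subgroup ↥N)) : ↥N), (memA' _).1 v.2⟩
        map_one' := rfl
        map_mul' := fun _ _ => rfl }
    exact isCyclic_of_injective φ fun u v huv =>
      Subtype.ext (Subtype.ext (Subtype.ext (congrArg (fun w : ↥(Subgroup.zpowers a) => (w : G)) huv)))
  have hinvol : ∀ v : ↥(SN : Subgroup ↥N), v ∉ A' → v * v = 1 := fun v hv =>
    Subtype.ext (Subtype.ext (D.sq _ ((memSN _).1 v.2) (fun hm => hv ((memA' v).2 hm))))
  obtain ⟨e⟩ := CfsgLib.PSL2Sub.dihedral_of_index_two A' hidx hcyc hinvol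
  have hn : 2 ≤ Nat.card A' := by
    rw [Nat.succ_le_iff, Finite.one_lt_card_iff_nontrivial, Subgroup.nontrivial_iff_exists_ne_one]
    refine ⟨⟨z', (memSN _).2 D.z_mem⟩, (memA' _).2 hzA, fun he => ne_one_of_orderOf D.ord ?_⟩
    exact congrArg (fun v : ↥(SN : Subgroup ↥N) => ((v : ↥N) : G)) he
  -- the odd part of the centraliser of `z` in `N`
  have hz'o : orderOf z' = 2 := by rw [← Subgroup.orderOf_coe]; exact D.ord
  set CN := Subgroup.centralizer ({z'} : Set ↥N) with hCNdef
  set O' := (Cfsg.oddCore CN).map CN.subtype with hO'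
  have hO'O : ∀ u ∈ O', ((u : ↥N) : G) ∈ O h D.ord := by
    intro u hu
    obtain ⟨v, hv, rfl⟩ := Subgroup.mem_map.1 hu
    refine ⟨mem_C.mpr ?_, ?_⟩
    · exact congrArg Subtype.val (Subgroup.mem_centralizer_singleton_iff.1 v.2)
    · rw [show orderOf (((CN.subtype v) : ↥N) : G) = orderOf v by
        rw [Subgroup.orderOf_coe]; exact Subgroup.orderOf_coe v]
      refine (Nat.coprime_two_right.1 (CfsgLib.Solvable.pPrimeCore_card_coprime 2 CN)).of_dvd_nat ?_
      exact Subgroup.orderOf_dvd_natCard _ hv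
  have hcentA : ∀ v ∈ (SN : Subgroup ↥N), (v : G) ∈ Subgroup.zpowers a →
      v ∈ Subgroup.centralizer (O' : Set ↥N) := by
    intro v _ hv u hu
    obtain ⟨i, hi⟩ := Subgroup.mem_zpowers_iff.1 hv
    exact Subtype.ext (by
      rw [Subgroup.coe_mul, Subgroup.coe_mul, ← hi]
      exact ((D.oA _ (hO'O u hu)).zpow_left i).symm.eq)
  obtain ⟨F, instF, instFin, hodd, ⟨ψ⟩⟩ := Cfsg.Agent.S0508.result (G := ↥N) SN (Nat.card A') hn ⟨e⟩
    z' hz'o ((memSN _).2 D.z_mem)
    (fun v hv => Subtype.ext (D.cen ((memSN v).1 hv)).symm.eq) O' hO'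
    (fun hO1 => by
      obtain ⟨u, hu, hu1⟩ : ∃ u ∈ O', u ≠ 1 := by
        by_contra hh
        push Not at hh
        exact hO1 (Subgroup.eq_bot_iff_forall _ |>.2 hh)
      have heq : ((SN : Subgroup ↥N) ⊓ Subgroup.centralizer (O' : Set ↥N)).subgroupOf
          (SN : Subgroup ↥N) = A' := by
        ext v
        rw [Subgroup.mem_subgroupOf, Subgroup.mem_inf, memA']
        refine ⟨fun hv => ?_, fun hv => ⟨v.2, hcentA _ v.2 hv⟩⟩
        by_contra hvA
        have h1 := D.oOut _ (hO'O u hu) _ ((memSN _).1 v.2) hvA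
        have h2 : (u : G) * ((v : ↥N) : G) = ((v : ↥N) : G) * u := congrArg Subtype.val (hv.2 u hu)
        rw [← h2, mul_inv_cancel_right] at h1
        exact hu1 (Subtype.ext (h.eq_one_of_mem_O_two (k := 1) D.ord (hO'O u hu)
          (by rw [pow_one, pow_two]; exact mul_eq_one_iff_eq_inv.2 h1)))
      refine ⟨?_, ?_⟩
      · haveI := hcyc
        rw [← heq] at hcyc
        exact isCyclic_of_surjective (Subgroup.subgroupOfEquivOfLe inf_le_left)
          (MulEquiv.surjective _)
      · rw [Subgroup.relIndex, heq, hidx])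
    (fun v hv hvc y hy => Subtype.ext (D.oOut _ (hO'O y hy) _ ((memSN v).1 hv)
      fun hA => hvc (hcentA v hv hA)))
    (fun Y hY hY1 g hg => by
      obtain ⟨u, hu, hu1⟩ : ∃ u ∈ Y, u ≠ 1 := by
        by_contra hh
        push Not at hh
        exact hY1 (Subgroup.eq_bot_iff_forall _ |>.2 hh)
      have hu' := hY ((Subgroup.mem_normalizer_iff.1 hg u).1 hu)
      set v : G := ((g * u * g⁻¹ : ↥N) : G) with hv
      have hvO : v ∈ O h D.ord := hO'O _ hu'
      have hv1 : v ≠ 1 := fun he => hu1 (conj_eq_one_iff.1 (Subtype.ext he : g * u * g⁻¹ = 1))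
      set z₂ : G := (g : G) * z * (g : G)⁻¹ with hz₂
      have hz₂o : orderOf z₂ = 2 := orderOf_conj_eq.trans D.ord
      have hvz₂ : v ∈ C z₂ := mem_C.mpr (by
        rw [hv, hz₂, Subgroup.coe_mul, Subgroup.coe_mul, Subgroup.coe_inv,
          show (g : G) * u * (g : G)⁻¹ * ((g : G) * z * (g : G)⁻¹) = g * (u * z) * (g : G)⁻¹ by group,
          mem_C.mp (hO'O u (hY hu)).1]
        group)
      have hCeq : C z₂ = C z := h.C_eq_of_odd hz₂o D.ord hvz₂ hvO.1 hvO.2 hv1
      have hz₂T : z₂ ∈ (T : Subgroup G) := by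
        have hp : IsPGroup 2 ↥(Subgroup.zpowers z₂ ⊔ (T : Subgroup G)) := by
          refine IsPGroup.to_sup_of_normal_right'
            (IsPGroup.of_card (n := 1) (by rw [Nat.card_zpowers, hz₂o, pow_one])) T.2
            ((Subgroup.zpowers_le.mpr ?_).trans (Subgroup.centralizer_le_normalizer _))
          intro y hy
          exact mem_C.mp (hCeq ▸ D.le_C hy : y ∈ C z₂)
        rw [← T.3 hp le_sup_right]
        exact Subgroup.mem_sup_left (Subgroup.mem_zpowers z₂)
      have hz₂A : z₂ ∈ Subgroup.zpowers a := by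
        by_contra hA
        have h1 := D.oOut v hvO z₂ hz₂T hA
        rw [← mem_C.mp hvz₂, mul_inv_cancel_right] at h1
        exact hv1 (h.eq_one_of_mem_O_two (k := 1) D.ord hvO
          (by rw [pow_one, pow_two]; exact mul_eq_one_iff_eq_inv.2 h1))
      have hzz : z₂ = z := (D.sq_in hz₂A (mul_self_of_orderOf hz₂o)).resolve_left
        (ne_one_of_orderOf hz₂o)
      exact Subgroup.mem_centralizer_singleton_iff.2 (Subtype.ext (mul_inv_eq_iff_eq_mul.1 hzz)))
  -- the field has more than three elements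
  have hns : ¬ Group.IsSolvable ↥N := fun hs => by
    rw [h.rad N hN hs] at hzN
    exact ne_one_of_orderOf D.ord (Subgroup.mem_bot.1 hzN)
  have hF3 : 3 < Fintype.card F := by
    by_contra hle
    have hF2 : 1 < Fintype.card F := Fintype.one_lt_card
    obtain ⟨k, hk⟩ := hodd
    have hc : Nat.card ↥N ∣ 24 := by
      rw [Nat.card_congr ψ.toEquiv,
        show (24 : ℕ) = Nat.card (Matrix.SpecialLinearGroup (Fin 2) F) by
          rw [CfsgLib.Linear.card_SL_two, show Fintype.card F = 3 by omega]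
          norm_num]
      exact Subgroup.card_quotient_dvd_card _
    exact hns (CfsgLib.Zassenhaus.isSolvable_of_card_dvd_twentyfour hc)
  -- the normaliser of `S` lies in `N T`
  have hcore : ∀ m : G, m ∈ C z → (∀ v ∈ (T : Subgroup G), v ∈ N → m * v * m⁻¹ ∈ (T : Subgroup G)) →
      m ∈ (T : Subgroup G) := by
    intro m hmz hmS
    obtain ⟨k, hk, y, hy, rfl⟩ := h.exists_decomp D.ord T D.le_C hmz
    have h1 := hmS (y⁻¹ * b * y) (mul_mem (mul_mem (inv_mem hy) hbT) hy) (by
      have := hN.conj_mem b hbN y⁻¹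
      rwa [inv_inv] at this)
    rw [show k * y * (y⁻¹ * b * y) * (k * y)⁻¹ = k * b * k⁻¹ by group] at h1
    have h2 : k * k ∈ (T : Subgroup G) := by
      have h3 := D.oOut _ (inv_mem hk) b hbT hbA
      rw [inv_inv] at h3
      have := mul_mem h1 (inv_mem hbT)
      rwa [show k * b * k⁻¹ * b⁻¹ = k * (b * k⁻¹ * b⁻¹) by group, h3] at this
    obtain ⟨n, hn'⟩ := T.2 ⟨k * k, h2⟩
    have h4 : k * k = 1 := h.eq_one_of_mem_O_two D.ord (mul_mem hk hk) (congrArg Subtype.val hn')
    rw [h.eq_one_of_mem_O_two (k := 1) D.ord hk (by rw [pow_one, pow_two, h4]), one_mul]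
    exact hy
  have hNS : ∀ m : G, (∀ v ∈ (T : Subgroup G), v ∈ N → m * v * m⁻¹ ∈ (T : Subgroup G)) →
      ∃ n ∈ N, ∃ y ∈ (T : Subgroup G), m = n * y := by
    intro m hmS
    by_cases hmz : m ∈ C z
    · exact ⟨1, one_mem _, m, hcore m hmz hmS, (one_mul m).symm⟩
    set z₁ := m * z * m⁻¹ with hz₁
    have hz₁T : z₁ ∈ (T : Subgroup G) := hmS z D.z_mem hzN
    have hz₁N : z₁ ∈ N := hN.conj_mem z hzN m
    have hz₁z : z₁ ≠ z := fun he => hmz (mem_C.mpr (mul_inv_eq_iff_eq_mul.1 he))
    have hz₁A : z₁ ∉ Subgroup.zpowers a := fun hA => (D.sq_in hA (mul_self_of_orderOf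
      (orderOf_conj_eq.trans D.ord))).elim
        (fun he => ne_one_of_orderOf D.ord (conj_eq_one_iff.1 he)) hz₁z
    -- `S` is a four group
    have hsq : ∀ x ∈ Subgroup.zpowers a, x ∈ N → x * x = 1 := by
      intro x hx hxN
      have hxT : x ∈ (T : Subgroup G) := Subgroup.zpowers_le.mpr D.mem hx
      have hxN' : m⁻¹ * x * m ∈ N := by simpa using hN.conj_mem x hxN m⁻¹
      have hxT' : m⁻¹ * x * m ∈ (T : Subgroup G) := by
        set U := (T : Subgroup G) ⊓ N
        have hle : U.map (MulAut.conj m).toMonoidHom ≤ U := by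
          rintro _ ⟨v, hv, rfl⟩
          exact ⟨hmS v hv.1 hv.2, hN.conj_mem v hv.2 m⟩
        have heq := Subgroup.eq_of_le_of_card_ge hle
          (Nat.card_congr (U.equivMapOfInjective _ (MulAut.conj m).injective).toEquiv).le
        obtain ⟨v, hv, hve⟩ := Subgroup.mem_map.1 (heq.ge (show x ∈ U from ⟨hxT, hxN⟩))
        have : m⁻¹ * x * m = v := by rw [← hve]; simp [mul_assoc]
        exact this ▸ hv.1
      have h1 : Commute z₁ x := by
        have := (D.cen hxT').map (MulAut.conj m).toMonoidHom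
        simpa [hz₁, mul_assoc] using this
      have h2 := D.inv_zpow hz₁T hz₁A hx
      rw [h1.eq, mul_inv_cancel_right] at h2
      exact mul_eq_one_iff_eq_inv.2 h2
    have hfour : ∀ v ∈ (T : Subgroup G), v ∈ N → v = 1 ∨ v = z ∨ v = b ∨ v = b * z := by
      intro v hv hvN
      by_cases hvA : v ∈ Subgroup.zpowers a
      · rcases D.sq_in hvA (hsq v hvA hvN) with hh | hh <;> simp [hh]
      · have hbv := D.idx b hbT v hv hbA hvA
        rcases D.sq_in hbv (hsq _ hbv (N.mul_mem hbN hvN)) with hh | hh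
        · right; right; left
          rw [← mul_left_cancel (hh.trans hbb.symm)]
        · right; right; right
          rw [← hh, ← mul_assoc, hbb, one_mul]
    have hScomm : ∀ v ∈ (T : Subgroup G), v ∈ N → ∀ v' ∈ (T : Subgroup G), v' ∈ N → Commute v v' := by
      intro v hv hvN v' hv' hv'N
      have hzb : Commute z b := D.cen hbT
      rcases hfour v hv hvN with rfl | rfl | rfl | rfl <;>
        rcases hfour v' hv' hv'N with rfl | rfl | rfl | rfl <;>
        first
          | exact Commute.one_left _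
          | exact Commute.one_right _
          | exact Commute.refl _
          | exact hzb
          | exact hzb.symm
          | exact hzb.mul_right (Commute.refl _)
          | exact (hzb.mul_right (Commute.refl _)).symm
          | exact (Commute.refl _).mul_right hzb.symm
          | exact ((Commute.refl _).mul_right hzb.symm).symm
    -- some element of `N` moves `z` inside `S`
    obtain ⟨n, hnS, hnz⟩ : ∃ n : ↥N, (∀ v ∈ (T : Subgroup G), v ∈ N →
        (n : G) * v * (n : G)⁻¹ ∈ (T : Subgroup G)) ∧ (n : G) * z * (n : G)⁻¹ ≠ z := by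
      by_contra hno
      push Not at hno
      obtain ⟨M, hM, hMo, hMz⟩ := CfsgLib.Invol.zStar_sylow SN z' hz'o fun g hg => by
        have hgc : ∀ v ∈ (SN : Subgroup ↥N), Commute (g * z' * g⁻¹) v := fun v hv =>
          Subtype.ext (hScomm _ ((memSN _).1 hg) (g * z' * g⁻¹).2 _ ((memSN _).1 hv) v.2).eq
        obtain ⟨n, hn, hne⟩ := SN.conj_eq_normalizer_conj_of_mem_centralizer z' g⁻¹
          (fun v hv => Subtype.ext ((D.cen ((memSN v).1 hv)).symm).eq)
          (fun v hv => by rw [inv_inv]; exact (hgc v hv).symm.eq)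
        rw [inv_inv] at hne
        rw [hne]
        have hn' : ∀ v ∈ (T : Subgroup G), v ∈ N →
            ((n⁻¹ : ↥N) : G) * v * ((n⁻¹ : ↥N) : G)⁻¹ ∈ (T : Subgroup G) := fun v hv hvN => by
          have := (Subgroup.mem_normalizer_iff.1 (inv_mem hn) (⟨v, hvN⟩ : ↥N)).1 ((memSN _).2 hv)
          exact (memSN _).1 this
        have h1 := hno n⁻¹ hn'
        apply Subtype.ext
        simpa [hz', mul_assoc] using h1
      have hM1 : M = ⊥ := le_bot_iff.1 (hcoreN ▸
        CfsgLib.Solvable.le_pPrimeCore hM (Nat.coprime_two_right.2 hMo))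
      have hzc : z' ∈ Subgroup.center ↥N := Subgroup.mem_center_iff.2 fun g => by
        have := Subgroup.mem_bot.1 (hM1 ▸ hMz g)
        exact (mul_inv_eq_iff_eq_mul.1 (mul_inv_eq_one.1 this)).symm
      rw [hcen, Subgroup.mem_bot] at hzc
      exact ne_one_of_orderOf hz'o hzc
    -- it moves `z` to all other involutions of `S`
    have hnN : ∀ v, v ∈ N → (n : G) * v * (n : G)⁻¹ ∈ N := fun v hv => hN.conj_mem v hv n
    set z₂ := (n : G) * z * (n : G)⁻¹ with hz₂
    have hz₂T : z₂ ∈ (T : Subgroup G) := hnS z D.z_mem hzN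
    set z₃ := (n : G) * z₂ * (n : G)⁻¹ with hz₃
    have hz₃T : z₃ ∈ (T : Subgroup G) := hnS z₂ hz₂T (hnN z hzN)
    have hz₃2 : z₃ ≠ z₂ := fun he => hnz (mul_left_cancel (mul_right_cancel (he : _ = (n : G) * z * (n : G)⁻¹)))
    have hne1 : ∀ v : G, (n : G) * v * (n : G)⁻¹ = 1 → v = 1 := fun v hv => conj_eq_one_iff.1 hv
    have hz₂1 : z₂ ≠ 1 := fun he => ne_one_of_orderOf D.ord (hne1 z he)
    have hz₃1 : z₃ ≠ 1 := fun he => hz₂1 (hne1 z₂ he)
    have hz₃z : z₃ ≠ z := by
      intro he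
      have hn2 : (n : G) * (n : G) ∈ (T : Subgroup G) := by
        refine hcore _ (mem_C.mpr (mul_inv_eq_iff_eq_mul.1 ?_)) fun v hv hvN => ?_
        · rw [show (n : G) * n * z * ((n : G) * n)⁻¹ = n * (n * z * (n : G)⁻¹) * (n : G)⁻¹ by group]
          exact he
        · rw [show (n : G) * n * v * ((n : G) * n)⁻¹ = n * (n * v * (n : G)⁻¹) * (n : G)⁻¹ by group]
          exact hnS _ (hnS v hv hvN) (hnN v hvN)
      have hnp : IsPGroup 2 ↥(Subgroup.zpowers n) := by
        obtain ⟨j, hj⟩ := T.2 ⟨_, hn2⟩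
        have : n ^ 2 ^ (j + 1) = 1 := Subtype.ext (by
          rw [Subgroup.coe_pow, pow_succ', pow_mul, pow_two]; exact congrArg Subtype.val hj)
        obtain ⟨i, -, hi⟩ := (Nat.dvd_prime_pow Nat.prime_two).1 (orderOf_dvd_of_pow_eq_one this)
        exact IsPGroup.of_card (n := i) (by rw [Nat.card_zpowers, hi])
      have hnn : n ∈ Subgroup.normalizer ((SN : Subgroup ↥N) : Set ↥N) := by
        rw [Subgroup.mem_normalizer_iff_map_conj_eq]
        apply Subgroup.eq_of_le_of_card_ge
        · rintro _ ⟨v, hv, rfl⟩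
          exact (memSN _).2 (hnS _ ((memSN v).1 hv) v.2)
        · exact (Nat.card_congr ((SN : Subgroup ↥N).equivMapOfInjective _
            (MulAut.conj n).injective).toEquiv).le
      have hnT : n ∈ (SN : Subgroup ↥N) := by
        have hp := IsPGroup.to_sup_of_normal_right' hnp SN.2 (Subgroup.zpowers_le.mpr hnn)
        rw [← SN.3 hp le_sup_right]
        exact Subgroup.mem_sup_left (Subgroup.mem_zpowers n)
      exact hnz (by rw [hz₂, ← (D.cen ((memSN n).1 hnT)).eq, mul_inv_cancel_right])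
    have hmove : ∃ n' : ↥N, (∀ v ∈ (T : Subgroup G), v ∈ N →
        (n' : G) * v * (n' : G)⁻¹ ∈ (T : Subgroup G)) ∧ (n' : G) * z * (n' : G)⁻¹ = z₁ := by
      have hb' : z₂ = b ∨ z₂ = b * z := by
        rcases hfour z₂ hz₂T (hnN z hzN) with hh | hh | hh | hh
        · exact absurd hh hz₂1
        · exact absurd hh hnz
        · exact Or.inl hh
        · exact Or.inr hh
      have hb'' : z₃ = b ∨ z₃ = b * z := by
        rcases hfour z₃ hz₃T (hnN _ (hnN z hzN)) with hh | hh | hh | hh
        · exact absurd hh hz₃1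
        · exact absurd hh hz₃z
        · exact Or.inl hh
        · exact Or.inr hh
      have h23 : z₁ = z₂ ∨ z₁ = z₃ := by
        rcases hfour z₁ hz₁T hz₁N with hh | hh | hh | hh
        · exact absurd hh fun he => ne_one_of_orderOf D.ord (conj_eq_one_iff.1 he)
        · exact absurd hh hz₁z
        all_goals
          rcases hb' with e2 | e2 <;> rcases hb'' with e3 | e3
          all_goals first
            | exact Or.inl (hh.trans e2.symm)
            | exact Or.inr (hh.trans e3.symm)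
            | exact absurd (e3.trans e2.symm) hz₃2
      rcases h23 with hh | hh
      · exact ⟨n, hnS, hh.symm⟩
      · refine ⟨n * n, fun v hv hvN => ?_, ?_⟩
        · rw [Subgroup.coe_mul, show (n : G) * n * v * ((n : G) * n)⁻¹
            = n * (n * v * (n : G)⁻¹) * (n : G)⁻¹ by group]
          exact hnS _ (hnS v hv hvN) (hnN v hvN)
        · rw [hh, Subgroup.coe_mul, show (n : G) * n * z * ((n : G) * n)⁻¹
            = n * (n * z * (n : G)⁻¹) * (n : G)⁻¹ by group]
    obtain ⟨n', hn'S, hn'z⟩ := hmove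
    have hn'inv : ∀ v ∈ (T : Subgroup G), v ∈ N →
        (n' : G)⁻¹ * v * (n' : G) ∈ (T : Subgroup G) := by
      intro v hv hvN
      have hnn : n' ∈ Subgroup.normalizer ((SN : Subgroup ↥N) : Set ↥N) := by
        rw [Subgroup.mem_normalizer_iff_map_conj_eq]
        apply Subgroup.eq_of_le_of_card_ge
        · rintro _ ⟨u, hu, rfl⟩
          exact (memSN _).2 (hn'S _ ((memSN u).1 hu) u.2)
        · exact (Nat.card_congr ((SN : Subgroup ↥N).equivMapOfInjective _
            (MulAut.conj n').injective).toEquiv).le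
      exact (memSN _).1 ((Subgroup.mem_normalizer_iff''.1 hnn (⟨v, hvN⟩ : ↥N)).1 ((memSN _).2 hv))
    refine ⟨n', n'.2, (n' : G)⁻¹ * m, hcore _ (mem_C.mpr (mul_inv_eq_iff_eq_mul.1 ?_)) fun v hv hvN => ?_,
      (mul_inv_cancel_left _ _).symm⟩
    · rw [show (n' : G)⁻¹ * m * z * ((n' : G)⁻¹ * m)⁻¹ = (n' : G)⁻¹ * z₁ * n' by rw [hz₁]; group,
        ← hn'z]
      group
    · rw [show (n' : G)⁻¹ * m * v * ((n' : G)⁻¹ * m)⁻¹ = (n' : G)⁻¹ * (m * v * m⁻¹) * n' by group]
      exact hn'inv _ (hmS v hv hvN) (hN.conj_mem v hvN m)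
  -- the index is at most two
  have hGNT : ∀ g : G, ∃ n ∈ N, ∃ y ∈ (T : Subgroup G), g = n * y := by
    intro g
    have htop : g ∈ Subgroup.normalizer (((SN : Subgroup ↥N).map N.subtype : Subgroup G) : Set G) ⊔ N := by
      rw [Sylow.normalizer_sup_eq_top SN]; exact Subgroup.mem_top g
    obtain ⟨m, hm, n, hn', rfl⟩ := Subgroup.mem_sup_of_normal_right.1 htop
    obtain ⟨n₁, hn₁, y, hy, rfl⟩ := hNS m fun v hv hvN => by
      have h1 : (v : G) ∈ (SN : Subgroup ↥N).map N.subtype :=
        Subgroup.mem_map.2 ⟨⟨v, hvN⟩, (memSN _).2 hv, rfl⟩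
      obtain ⟨w, hw, hwe⟩ := Subgroup.mem_map.1 ((Subgroup.mem_normalizer_iff.1 hm v).1 h1)
      exact hwe ▸ (memSN w).1 hw
    exact ⟨n₁ * (y * n * y⁻¹), mul_mem hn₁ (hN.conj_mem n hn' y), y, hy, by group⟩
  have haa : a * a ∈ N := by
    have : a * b * a⁻¹ * b⁻¹ ∈ N := mul_mem (hN.conj_mem b hbN a) (inv_mem hbN)
    rwa [show a * b * a⁻¹ * b⁻¹ = a * (b * a * b⁻¹)⁻¹ by group, D.inv b hbT hbA, inv_inv] at this
  have hpow : ∀ i : ℤ, a ^ i ∈ N ∨ a ^ i * a ∈ N := by
    intro i
    rcases Int.even_or_odd i with ⟨j, rfl⟩ | ⟨j, rfl⟩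
    · left; rw [zpow_add, ← (Commute.refl a).mul_zpow]; exact N.zpow_mem haa j
    · right
      rw [show a ^ (2 * j + 1) * a = (a * a) ^ (j + 1) by
        rw [← zpow_add_one, ← zpow_two, ← zpow_mul]; congr 1; ring]
      exact N.zpow_mem haa _
  by_cases haN : a ∈ N
  · refine ⟨N, 1, F, instF, instFin, hN, hodd, hF3, hCN, ⟨ψ⟩, Or.inl ?_⟩
    refine eq_top_iff.2 fun g _ => ?_
    obtain ⟨n, hn', y, hy, rfl⟩ := hGNT g
    refine mul_mem hn' ?_
    by_cases hyA : y ∈ Subgroup.zpowers a
    · exact Subgroup.zpowers_le.mpr haN hyA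
    · have := mul_mem (Subgroup.zpowers_le.mpr haN (D.idx y hy b hbT hyA hbA)) hbN
      rwa [mul_assoc, hbb, mul_one] at this
  · have habT : a * b ∈ (T : Subgroup G) := mul_mem D.mem hbT
    have habA : a * b ∉ Subgroup.zpowers a := fun hm => hbA (by
      simpa using mul_mem (inv_mem (Subgroup.mem_zpowers a)) hm)
    have habN : a * b ∉ N := fun hm => haN (by simpa using mul_mem hm (inv_mem hbN))
    refine ⟨N, a * b, F, instF, instFin, hN, hodd, hF3, hCN, ⟨ψ⟩, Or.inr
      ⟨orderOf_eq_prime (by rw [pow_two, D.sq _ habT habA]) fun he => habA (he ▸ one_mem _), habN, fun g => ?_⟩⟩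
    obtain ⟨n, hn', y, hy, rfl⟩ := hGNT g
    have key : y ∈ N ∨ y * (a * b) ∈ N := by
      by_cases hyA : y ∈ Subgroup.zpowers a
      · obtain ⟨i, rfl⟩ := Subgroup.mem_zpowers_iff.1 hyA
        rcases hpow i with hh | hh
        · exact Or.inl hh
        · exact Or.inr (by rw [← mul_assoc]; exact mul_mem hh hbN)
      · obtain ⟨i, hi⟩ := Subgroup.mem_zpowers_iff.1 (D.idx y hy b hbT hyA hbA)
        have hyi : y = a ^ i * b := by rw [hi, mul_assoc, hbb, mul_one]
        rcases hpow i with hh | hh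
        · exact Or.inl (hyi ▸ mul_mem hh hbN)
        · refine Or.inr ?_
          have h2 : b * a * b = a⁻¹ := by
            have := D.inv b hbT hbA
            rwa [hb1] at this
          rw [hyi, show a ^ i * b * (a * b) = a ^ i * (b * a * b) by group, h2,
            show a ^ i * a⁻¹ = a ^ i * a * (a * a)⁻¹ by group]
          exact mul_mem hh (inv_mem haa)
    rcases key with hh | hh
    · exact Or.inl (mul_mem hn' hh)
    · exact Or.inr (by rw [mul_assoc]; exact mul_mem hn' hh)

end CfsgLib.CyclicNorm
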