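import Cfsg.Agent.Lib.CyclicNorm.Dihedral
import Cfsg.Agent.Lib.AutPSL.MainTwo
import Cfsg.Agent.Lib.AutPSL.Coset

/-!
# Groups with the normaliser condition and an involution are `PSL₂` or `PGL₂`
-/

set_option autoImplicit false
set_option linter.unusedSectionVars false
set_option linter.style.haveILetI false

open scoped Pointwise
open CfsgLib.AutPSL

namespace CfsgLib.CyclicNorm

variable {G : Type*} [Group G] [Finite G]

theorem Hyp.not_solvable_top (h : Hyp G) {t : G} (ht : orderOf t = 2) : ¬ Group.IsSolvable G := by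
  intro hs
  have := h.rad ⊤ inferInstance (Group.isSolvable_of_surjective
    (f := (Subgroup.topEquiv : (⊤ : Subgroup G) ≃* G).symm.toMonoidHom) (MulEquiv.surjective _))
  exact ne_one_of_orderOf ht (Subgroup.mem_bot.1 (this ▸ Subgroup.mem_top t))

/-- The characteristic two case. -/
theorem Hyp.equiv_of_abelian (h : Hyp G) {t : G} (ht : orderOf t = 2)
    (hab : ∀ t : G, orderOf t = 2 → IsMulCommutative ↥(C t)) :
    ∃ (F : Type) (_ : Field F) (_ : Fintype F), 3 < Fintype.card F ∧
      Nonempty (G ≃* Matrix.ProjectiveSpecialLinearGroup (Fin 2) F) := by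
  haveI := Fact.mk Nat.prime_two
  have hodd : ∀ N : Subgroup G, N.Normal → Odd (Nat.card N) → N = ⊥ :=
    fun N hN hNo => h.odd_normal ht N hN hNo
  have hns := h.not_solvable_top ht
  let P : Sylow 2 G := default
  have hnc : ¬ IsCyclic (P : Subgroup G) := by
    intro hc
    obtain ⟨⟨c, hcP⟩, hgen⟩ := IsCyclic.exists_generator (α := (P : Subgroup G))
    have hall : ∀ v ∈ (P : Subgroup G), v ∈ Subgroup.zpowers c := fun v hv => by
      obtain ⟨i, hi⟩ := Subgroup.mem_zpowers_iff.1 (hgen ⟨v, hv⟩)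
      exact Subgroup.mem_zpowers_iff.2 ⟨i, congrArg Subtype.val hi⟩
    obtain ⟨Q, hQ⟩ := (IsPGroup.of_card (p := 2) (n := 1)
      (show Nat.card (Subgroup.zpowers t) = 2 ^ 1 by rw [Nat.card_zpowers, ht, pow_one])).exists_le_sylow
    obtain ⟨k, hk⟩ := MulAction.exists_smul_eq G Q P
    have hs : k * t * k⁻¹ ∈ (P : Subgroup G) := by
      have : k * t * k⁻¹ ∈ (k • Q : Sylow 2 G) := (CfsgLib.Transfer.mem_sylow_smul_iff k Q _).mpr (by
        rw [show k⁻¹ * (k * t * k⁻¹) * k = t by group]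
        exact hQ (Subgroup.mem_zpowers t))
      rwa [hk] at this
    have hso : orderOf (k * t * k⁻¹) = 2 := orderOf_conj_eq.trans ht
    exact h.not_isolated hodd P hso fun g hg =>
      involution_unique (orderOf_conj_eq.trans hso) hso (hall _ hg) (hall _ hs)
  have hnn : ¬ (P : Subgroup G).Normal := by
    intro hn
    haveI : Group.IsNilpotent (P : Subgroup G) := P.2.isNilpotent
    have hP := h.rad _ hn inferInstance
    exact hnc (hP ▸ inferInstance)
  obtain ⟨F, instF, instFin, hF, -, ⟨e⟩⟩ :=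
    CfsgLib.AbInvCent.Hyp.exists_mulEquiv_SL_prod (P := P) ⟨hab, hnc, hnn⟩
  have hcen : Subgroup.center G = ⊥ := h.rad _ inferInstance
    (Group.isSolvable_of_comm fun a b => Subtype.ext (Subgroup.mem_center_iff.1 b.2 a))
  haveI : Subsingleton (Subgroup.center G) := by rw [hcen]; infer_instance
  let f : Matrix.SpecialLinearGroup (Fin 2) F × Subgroup.center G ≃* Matrix.SpecialLinearGroup (Fin 2) F :=
    MulEquiv.ofBijective (MonoidHom.fst _ _)
      ⟨fun p q hpq => Prod.ext hpq (Subsingleton.elim _ _), fun p => ⟨(p, 1), rfl⟩⟩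
  have hc2 : Subgroup.center (Matrix.SpecialLinearGroup (Fin 2) F) = ⊥ := by
    rw [eq_bot_iff]
    intro A hA
    obtain ⟨r, hr, hrA⟩ := Matrix.SpecialLinearGroup.mem_center_iff.1 hA
    rw [Fintype.card_fin] at hr
    have h2 : (r - 1) ^ 2 = 0 := by
      rw [sub_sq, hr, CharTwo.two_eq_zero]; ring_nf; exact CharTwo.two_eq_zero
    have hr1 : r = 1 := sub_eq_zero.1 (pow_eq_zero_iff two_ne_zero |>.1 h2)
    rw [hr1, map_one] at hrA
    exact Subgroup.mem_bot.2 (Subtype.ext hrA.symm)
  let g : Matrix.SpecialLinearGroup (Fin 2) F ≃* Matrix.ProjectiveSpecialLinearGroup (Fin 2) F :=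
    ((QuotientGroup.quotientMulEquivOfEq hc2).trans QuotientGroup.quotientBot).symm
  refine ⟨F, instF, instFin, ?_, ⟨(e.trans f).trans g⟩⟩
  by_contra hle
  have hF2 : 1 < Fintype.card F := Fintype.one_lt_card
  refine hns (CfsgLib.Zassenhaus.isSolvable_of_card_dvd_twentyfour ?_)
  rw [Nat.card_congr (e.trans f).toEquiv, CfsgLib.Linear.card_SL_two]
  rcases (show Fintype.card F = 2 ∨ Fintype.card F = 3 by omega) with hh | hh <;>
    rw [hh] <;> norm_num

/-- Two commuting involutions of `PSL₂(F)`, `F` of odd order, fixed by all field automorphisms. -/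
theorem exists_fixed_four {F : Type*} [Field F] [Fintype F] (hodd : Odd (Fintype.card F)) :
    ∃ u v : PSLg 2 F, orderOf u = 2 ∧ orderOf v = 2 ∧ u ≠ v ∧ Commute u v ∧
      ∀ σ : F ≃+* F, fieldAut σ u = u ∧ fieldAut σ v = v := by
  haveI := Fact.mk Nat.prime_two
  obtain ⟨p, hp⟩ := CharP.exists F
  haveI := hp
  have hpr : p.Prime := CharP.char_is_prime F p
  haveI : NeZero p := ⟨hpr.ne_zero⟩
  have hne : (-1 : F) ≠ 1 := Ring.neg_one_ne_one_of_char_ne_two fun h2 =>
    Nat.not_even_iff_odd.2 hodd (Nat.even_iff.2 (FiniteField.even_card_of_char_two h2))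
  obtain ⟨A, B, hAB⟩ := CharP.sq_add_sq F p (-1)
  push_cast at hAB
  let U : SLg 2 F := ⟨!![0, 1; -1, 0], by simp [Matrix.det_fin_two_of]⟩
  let V : SLg 2 F := ⟨!![(A : F), (B : F); (B : F), -(A : F)], by
    rw [Matrix.det_fin_two_of]; linear_combination -hAB⟩
  have hscal : ∀ W : SLg 2 F, W.1 = Matrix.scalar (Fin 2) (-1 : F) →
      W ∈ Subgroup.center (SLg 2 F) := fun W hW =>
    Matrix.SpecialLinearGroup.mem_center_iff.2 ⟨-1, by norm_num, hW.symm⟩
  have hord : ∀ W : SLg 2 F, (W * W).1 = Matrix.scalar (Fin 2) (-1 : F) →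
      W ∉ Subgroup.center (SLg 2 F) → orderOf (QuotientGroup.mk W : PSLg 2 F) = 2 := by
    intro W h1 h2
    refine orderOf_eq_prime ?_ fun he => h2 ((QuotientGroup.eq_one_iff W).1 he)
    rw [pow_two, ← QuotientGroup.mk_mul]
    exact (QuotientGroup.eq_one_iff _).2 (hscal _ h1)
  have hU : (U * U).1 = Matrix.scalar (Fin 2) (-1 : F) := by
    rw [Matrix.SpecialLinearGroup.coe_mul]
    ext i j; fin_cases i <;> fin_cases j <;> simp [U]
  have hV : (V * V).1 = Matrix.scalar (Fin 2) (-1 : F) := by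
    rw [Matrix.SpecialLinearGroup.coe_mul]
    ext i j; fin_cases i <;> fin_cases j <;> simp [V] <;>
      first
        | (linear_combination hAB)
        | ring
  have hUc : U ∉ Subgroup.center (SLg 2 F) := fun hU' => by
    obtain ⟨r, -, hr⟩ := Matrix.SpecialLinearGroup.mem_center_iff.1 hU'
    have := congrFun (congrFun hr 0) 1
    simp [U] at this
  have hUV : U⁻¹ * V ∉ Subgroup.center (SLg 2 F) := fun hU' => by
    obtain ⟨r, -, hr⟩ := Matrix.SpecialLinearGroup.mem_center_iff.1 hU'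
    have e1 : V = U * (U⁻¹ * V) := (mul_inv_cancel_left U V).symm
    have e2 : V.1 = U.1 * Matrix.scalar (Fin 2) r := by
      rw [hr, ← Matrix.SpecialLinearGroup.coe_mul, ← e1]
    have h01 := congrFun (congrFun e2 0) 1
    have h10 := congrFun (congrFun e2 1) 0
    simp [U, V] at h01 h10
    have hr0 : r ≠ 0 := by
      intro h0
      have h00 := congrFun (congrFun e2 0) 0
      simp [U, V] at h00
      rw [h0] at h01
      rw [h00, h01] at hAB
      simp at hAB
    have h3 : r = -r := h01.symm.trans h10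
    exact hne (mul_right_cancel₀ hr0 (by rw [one_mul, neg_one_mul]; exact h3.symm))
  have hVc : V ∉ Subgroup.center (SLg 2 F) := fun hV' => by
    obtain ⟨r, -, hr⟩ := Matrix.SpecialLinearGroup.mem_center_iff.1 hV'
    have h00 := congrFun (congrFun hr 0) 0
    have h01 := congrFun (congrFun hr 0) 1
    have h11 := congrFun (congrFun hr 1) 1
    simp [V] at h00 h01 h11
    rw [← h01] at hAB
    have hA0 : (A : F) ≠ 0 := fun h0 => by rw [h0] at hAB; simp at hAB
    exact hne (mul_right_cancel₀ hA0 (by rw [one_mul, neg_one_mul]; exact h11.symm.trans h00))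
  refine ⟨QuotientGroup.mk U, QuotientGroup.mk V, hord U hU hUc, hord V hV hVc,
    fun he => hUV (QuotientGroup.eq.1 he), ?_, fun σ => ⟨?_, ?_⟩⟩
  · change (QuotientGroup.mk U : PSLg 2 F) * QuotientGroup.mk V = QuotientGroup.mk V * QuotientGroup.mk U
    rw [← QuotientGroup.mk_mul, ← QuotientGroup.mk_mul]
    refine QuotientGroup.eq.2 ?_
    let W : SLg 2 F := ⟨Matrix.scalar (Fin 2) (-1 : F), by simp⟩
    have e : V * U = U * V * W := Subtype.ext (by
      simp only [Matrix.SpecialLinearGroup.coe_mul]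
      ext i j; fin_cases i <;> fin_cases j <;> simp [U, V, W])
    rw [e, inv_mul_cancel_left]
    exact hscal W rfl
  · rw [fieldAut_mk]
    refine congrArg _ (Subtype.ext ?_)
    rw [fieldSL_coe]
    ext i j; fin_cases i <;> fin_cases j <;> simp [U]
  · rw [fieldAut_mk]
    refine congrArg _ (Subtype.ext ?_)
    rw [fieldSL_coe]
    ext i j; fin_cases i <;> fin_cases j <;> simp [V]

/-- An almost simple overgroup of index two of `PSL₂(q)` without three independent commuting
involutions is `PGL₂(q)`. -/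
theorem equiv_pgl {F : Type*} [Field F] [Fintype F] (hodd : Odd (Fintype.card F))
    {N : Subgroup G} [N.Normal] (ψ : ↥N ≃* PSLg 2 F) (hC : Subgroup.centralizer (N : Set G) = ⊥)
    {s : G} (hs : orderOf s = 2) (hsN : s ∉ N) (hall : ∀ g : G, g ∈ N ∨ g * s ∈ N)
    (h3 : ∀ x y w : G, orderOf x = 2 → orderOf y = 2 → orderOf w = 2 → Commute x y → Commute x w →
      Commute y w → x ≠ y → w ≠ x → w ≠ y → w ≠ x * y → False) :
    Nonempty (G ≃* Matrix.ProjGenLinGroup (Fin 2) F) := by
  let Φ : G →* MulAut (PSLg 2 F) := (MulAut.congr ψ).toMonoidHom.comp MulAut.conjNormal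
  have hΦ : ∀ (g : G) (x : PSLg 2 F), ((ψ.symm (Φ g x) : ↥N) : G) = g * (ψ.symm x : ↥N) * g⁻¹ := by
    intro g x
    simp [Φ, MulAut.congr, MulAut.conjNormal_apply]
  have hinj : Function.Injective Φ := by
    rw [injective_iff_map_eq_one]
    intro g hg
    have : g ∈ Subgroup.centralizer (N : Set G) := fun v hv => by
      have h1 := hΦ g (ψ ⟨v, hv⟩)
      rw [hg, MulAut.one_apply, MulEquiv.symm_apply_apply] at h1
      exact mul_inv_eq_iff_eq_mul.1 h1.symm |>.symm
    rwa [hC, Subgroup.mem_bot] at this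
  have hinner : ∀ n : ↥N, ∃ g : GL (Fin 2) F, Φ (n : G) = diagAut g := by
    intro n
    obtain ⟨m, hm⟩ := QuotientGroup.mk_surjective (ψ n)
    refine ⟨Matrix.SpecialLinearGroup.toGL m, ?_⟩
    rw [diagAut_toGL, hm]
    ext x
    apply ψ.symm.injective
    apply Subtype.ext
    rw [hΦ, MulAut.conj_apply, map_mul, map_mul, map_inv, MulEquiv.symm_apply_apply]
    rfl
  obtain ⟨g₀, σ, hφ⟩ := aut_eq_two (Φ s)
  have hs2 : Φ s * Φ s = 1 := by rw [← map_mul, mul_self_of_orderOf hs, map_one]
  by_cases hσ : σ = 1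
  · -- inside `PGL₂`
    have hle : Φ.range ≤ (diagAut (n := 2) (F := F)).range := by
      rintro _ ⟨g, rfl⟩
      have hsd : Φ s ∈ (diagAut (n := 2) (F := F)).range := ⟨g₀, by rw [hφ, hσ, map_one, mul_one]⟩
      rcases hall g with hg | hg
      · obtain ⟨k, hk⟩ := hinner ⟨g, hg⟩
        exact ⟨k, hk.symm⟩
      · obtain ⟨k, hk⟩ := hinner ⟨g * s, hg⟩
        have e : Φ g = Φ (g * s) * (Φ s)⁻¹ := by rw [map_mul, mul_inv_cancel_right]
        rw [e]
        exact mul_mem ⟨k, hk.symm⟩ (inv_mem hsd)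
    have hidx : N.index = 2 := by
      rw [Subgroup.index_eq_two_iff]
      refine ⟨s, fun g => ?_⟩
      by_cases hg : g ∈ N
      · exact Or.inr ⟨hg, fun hm => hsN (by simpa using mul_mem (inv_mem hg) hm)⟩
      · exact Or.inl ⟨(hall g).resolve_left hg, hg⟩
    have hcard : Nat.card G = Nat.card ↥(diagAut (n := 2) (F := F)).range := by
      rw [← N.card_mul_index, hidx, Nat.card_congr ψ.toEquiv,
        ← Nat.card_congr (pglEquivInndiag (n := 2) (F := F) le_rfl).toEquiv, CfsgLib.Linear.card_PGL,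
        Subgroup.card_eq_card_quotient_mul_card_subgroup (Subgroup.center (SLg 2 F)),
        CfsgLib.Linear.card_center_SL, Fintype.card_fin]
      congr 1
      obtain ⟨k, hk⟩ := hodd
      rw [hk, Nat.add_sub_cancel]
      exact (Nat.gcd_eq_right (dvd_mul_right 2 k)).symm
    have heq : Φ.range = (diagAut (n := 2) (F := F)).range := Subgroup.eq_of_le_of_card_ge hle (by
      rw [← hcard, Nat.card_congr (MonoidHom.ofInjective hinj).toEquiv])
    exact ⟨((MonoidHom.ofInjective hinj).trans (MulEquiv.subgroupCongr heq)).trans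
      (pglEquivInndiag (n := 2) (F := F) le_rfl).symm⟩
  · -- a field automorphism would centralise a four group
    exfalso
    have h1 : (diagAut g₀ * fieldAut σ : MulAut (PSLg 2 F)) ^ 2 = 1 := by rw [pow_two, ← hφ, hs2]
    have h2 : σ * σ = 1 := by
      have : (diagAut (g₀ * Matrix.GeneralLinearGroup.map σ.toRingHom g₀) * fieldAut (σ * σ) :
          MulAut (PSLg 2 F)) = 1 := by
        rw [← h1, pow_two, map_mul, map_mul, mul_assoc (diagAut g₀), ← mul_assoc _ (fieldAut σ) (fieldAut σ),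
          ← fieldAut_diagAut, ← mul_assoc, ← mul_assoc, ← mul_assoc]
      exact (semilinear_eq_one le_rfl this).2
    haveI := Fact.mk Nat.prime_two
    obtain ⟨k, hk⟩ := field_coset_conj le_rfl (orderOf_eq_prime (by rw [pow_two, h2]) hσ) h1
    obtain ⟨u, v, hu, hv, huv, hc, hfix⟩ := exists_fixed_four hodd
    let x : ↥N := ψ.symm (diagAut k u)
    let y : ↥N := ψ.symm (diagAut k v)
    have hfixk : ∀ w : PSLg 2 F, fieldAut σ w = w → Φ s (diagAut k w) = diagAut k w := by
      intro w hw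
      rw [hφ, hk, MulAut.mul_apply, MulAut.mul_apply, MulAut.inv_apply, MulEquiv.symm_apply_apply, hw]
    have hcs : ∀ w : PSLg 2 F, fieldAut σ w = w → Commute ((ψ.symm (diagAut k w) : ↥N) : G) s := by
      intro w hw
      have := hΦ s (diagAut k w)
      rw [hfixk w hw] at this
      exact mul_inv_eq_iff_eq_mul.1 this.symm |>.symm
    have hord : ∀ w : PSLg 2 F, orderOf ((ψ.symm (diagAut k w) : ↥N) : G) = orderOf w := fun w => by
      rw [Subgroup.orderOf_coe, MulEquiv.orderOf_eq, MulEquiv.orderOf_eq]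
    exact h3 (x : G) (y : G) s ((hord u).trans hu) ((hord v).trans hv) hs
      (congrArg Subtype.val ((hc.map (diagAut k).toMonoidHom).map ψ.symm.toMonoidHom).eq)
      (hcs u (hfix σ).1) (hcs v (hfix σ).2)
      (fun he => huv ((diagAut k).injective (ψ.symm.injective (Subtype.ext he))))
      (fun he => hsN (he ▸ x.2)) (fun he => hsN (he ▸ y.2)) (fun he => hsN (he ▸ mul_mem x.2 y.2))

/-- **Groups with the normaliser condition and an involution.** -/
theorem exists_equiv_of_involution (h : Hyp G) {t : G} (ht : orderOf t = 2) :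
    ∃ (F : Type) (_ : Field F) (_ : Fintype F), 3 < Fintype.card F ∧
      (Nonempty (G ≃* Matrix.ProjectiveSpecialLinearGroup (Fin 2) F) ∨
        Nonempty (G ≃* Matrix.ProjGenLinGroup (Fin 2) F)) := by
  let T : Sylow 2 G := default
  rcases h.abelian_or_dih ht T with hab | ⟨z, a, D⟩
  · obtain ⟨F, i1, i2, h3, he⟩ := h.equiv_of_abelian ht hab
    exact ⟨F, i1, i2, h3, Or.inl he⟩
  obtain ⟨N, s, F, i1, i2, hN, hodd, h3, hC, ⟨ψ⟩, hcase⟩ := D.exists_psl
  refine ⟨F, i1, i2, h3, ?_⟩
  haveI := hN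
  rcases hcase with rfl | ⟨hs, hsN, hall⟩
  · exact Or.inl ⟨Subgroup.topEquiv.symm.trans ψ⟩
  · exact Or.inr (equiv_pgl hodd ψ hC hs hsN hall
      fun _ _ _ hx hy hw a b c d e f g => D.no_three hx hy hw a b c d e f g)

end CfsgLib.CyclicNorm
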