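import Cfsg.Agent.Lib.CyclicNorm.Final

/-!
# The normaliser condition forces `PSL₂` or `PGL₂`, given solvability of groups of odd order
-/

set_option autoImplicit false

universe u

namespace CfsgLib.CyclicNorm

/-- The statement, relative to the solvability of groups of odd order. -/
theorem exists_equiv_of_oddSolvable
    (hFT : ∀ (X : Type u) [Group X] [Finite X], Odd (Nat.card X) → Group.IsSolvable X)
    {G : Type u} [Group G] [Finite G] [Nontrivial G] (h : Hyp G) :
    ∃ (F : Type) (_ : Field F) (_ : Fintype F), 3 < Fintype.card F ∧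
      (Nonempty (G ≃* Matrix.ProjectiveSpecialLinearGroup (Fin 2) F) ∨
        Nonempty (G ≃* Matrix.ProjGenLinGroup (Fin 2) F)) := by
  rcases Nat.even_or_odd (Nat.card G) with he | ho
  · haveI := Fact.mk Nat.prime_two
    obtain ⟨t, ht⟩ := exists_prime_orderOf_dvd_card' (G := G) 2 he.two_dvd
    exact exists_equiv_of_involution h ht
  · exfalso
    haveI := hFT G ho
    exact top_ne_bot (h.rad ⊤ inferInstance inferInstance)

end CfsgLib.CyclicNorm
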