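import Cfsg.Agent.Lib.CyclicNorm.Basic
import Cfsg.Agent.Lib.FGStruct.Dedekind
import Cfsg.Agent.Lib.Solvable.Core
import Cfsg.Agent.S0042

/-!
# Odd order normal subgroups under the normaliser condition

The odd part of an involution centraliser is abelian, and a group with an involution satisfying
`CfsgLib.CyclicNorm.Hyp` has no nontrivial normal subgroup of odd order.
-/

set_option autoImplicit false
set_option linter.unusedSectionVars false
set_option linter.style.haveILetI false

open scoped Pointwise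

namespace CfsgLib.CyclicNorm

variable {G : Type*} [Group G] [Finite G] (h : Hyp G)
include h

/-- The odd part of an involution centraliser is abelian. -/
theorem Hyp.O_comm {t u v : G} (ht : orderOf t = 2) (hu : u ∈ O h ht) (hv : v ∈ O h ht) :
    Commute u v := by
  have hn : ∀ H : Subgroup ↥(O h ht), H.Normal := fun H => ⟨fun a ha g => by
    obtain ⟨i, hi⟩ := Subgroup.mem_zpowers_iff.mp (h.conj_odd ht a.2.1 a.2.2 g.2.1)
    exact (Subtype.ext hi : a ^ i = g * a * g⁻¹) ▸ H.zpow_mem ha i⟩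
  by_contra hc
  obtain ⟨⟨a, b, ha, -, -⟩, -⟩ := FGStruct.Dedekind.exists_quaternion_pair hn
    ⟨⟨u, hu⟩, ⟨v, hv⟩, fun hh => hc (congrArg Subtype.val hh.eq)⟩
  have := a.2.2
  rw [Subgroup.orderOf_coe, ha] at this
  exact absurd this (by decide)

/-- No nontrivial normal subgroup of odd order. -/
theorem Hyp.odd_normal {t : G} (ht : orderOf t = 2) (N : Subgroup G) (hN : N.Normal)
    (hodd : Odd (Nat.card ↥N)) : N = ⊥ := by
  haveI := hN
  have hordN : ∀ n ∈ N, Odd (orderOf n) := fun n hn =>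
    hodd.of_dvd_nat (by rw [← Subgroup.orderOf_mk n hn]; exact orderOf_dvd_natCard _)
  have htt : t * t = 1 := mul_self_of_orderOf ht
  have hti : t⁻¹ = t := inv_eq_of_mul_eq_one_left htt
  -- commuting conjugates of `t` under `N` are equal
  have hconj : ∀ g ∈ N, Commute t (g * t * g⁻¹) → g ∈ C t := by
    intro g hg hc
    have hm : t * (g * t * g⁻¹) ∈ N := by
      rw [show t * (g * t * g⁻¹) = (t * g * t⁻¹) * g⁻¹ by rw [hti]; simp only [mul_assoc]]
      exact mul_mem (hN.conj_mem g hg t) (inv_mem hg)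
    have h2 : (t * (g * t * g⁻¹)) ^ 2 = 1 := by
      rw [hc.mul_pow, sq, sq, htt, one_mul, show g * t * g⁻¹ * (g * t * g⁻¹) = g * (t * t) * g⁻¹ by
        group, htt, mul_one, mul_inv_cancel]
    have h1 : t * (g * t * g⁻¹) = 1 := orderOf_eq_one_iff.mp (Nat.eq_one_of_dvd_coprimes
      (Nat.coprime_two_left.mpr (hordN _ hm)) (orderOf_dvd_of_pow_eq_one h2) dvd_rfl)
    exact mem_C.mpr (mul_inv_eq_iff_eq_mul.mp ((eq_inv_of_mul_eq_one_right h1).trans hti))
  by_cases hA1 : ∀ n ∈ N, n ∈ C t → n = 1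
  · -- `t` acts without fixed points, so `N` is abelian
    refine h.rad N hN (Group.isSolvable_of_comm ?_)
    refine MonoidHom.FixedPointFree.commute_all_of_involutive
      (φ := (MulAut.conjNormal t : ↥N ≃* ↥N).toMonoidHom) ?_ ?_
    · intro n hn
      refine Subtype.ext (hA1 n n.2 (mem_C.mpr ?_))
      have := congrArg Subtype.val hn
      simp only [MulEquiv.coe_toMonoidHom, MulAut.conjNormal_apply] at this
      exact (mul_inv_eq_iff_eq_mul.mp this).symm
    · intro n
      refine Subtype.ext ?_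
      simp only [MulEquiv.coe_toMonoidHom, MulAut.conjNormal_apply]
      rw [show t * (t * (n : G) * t⁻¹) * t⁻¹ = (t * t) * n * (t * t)⁻¹ by group, htt]
      group
  by_cases hAN : ∀ n ∈ N, n ∈ C t
  · exact h.rad N hN (Group.isSolvable_of_comm fun a b => Subtype.ext
      (h.O_comm ht ⟨hAN a a.2, hordN a a.2⟩ ⟨hAN b b.2, hordN b b.2⟩).eq)
  push Not at hA1 hAN
  obtain ⟨u, hu, hut, hu1⟩ := hA1
  obtain ⟨m, hm, hmt⟩ := hAN
  set A := (C t).subgroupOf N with hA
  have hFrob : Cfsg.IsFrobeniusComplement A := by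
    refine ⟨fun he => hu1 ?_, fun he => hmt ?_, fun g hg => ?_⟩
    · have : (⟨u, hu⟩ : N) ∈ A := hut
      rw [he] at this
      exact congrArg Subtype.val (Subgroup.mem_bot.mp this)
    · exact (he ▸ Subgroup.mem_top (⟨m, hm⟩ : N) : (⟨m, hm⟩ : N) ∈ A)
    · rw [eq_bot_iff]
      rintro x ⟨hx, hx'⟩
      change x ∈ MulAut.conj g • A at hx'
      rw [Subgroup.mem_pointwise_smul_iff_inv_smul_mem] at hx'
      by_contra hx1
      refine hg (hconj g g.2 ?_)
      have hxt : (x : G) ∈ C t := hx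
      have hxg : (g : G)⁻¹ * x * g ∈ C t := by
        simpa [hA, Subgroup.mem_subgroupOf, MulAut.smul_def] using hx'
      have hxs : (x : G) ∈ C ((g : G) * t * (g : G)⁻¹) := mem_C.mpr (by
        calc (x : G) * (g * t * (g : G)⁻¹) = g * (((g : G)⁻¹ * x * g) * t) * (g : G)⁻¹ := by group
          _ = g * (t * ((g : G)⁻¹ * x * g)) * (g : G)⁻¹ := by rw [mem_C.mp hxg]
          _ = g * t * (g : G)⁻¹ * x := by group)
      have hs : orderOf ((g : G) * t * (g : G)⁻¹) = 2 := by
        rw [← MulAut.conj_apply, MulEquiv.orderOf_eq, ht]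
      have heq := h.C_eq_of_odd ht hs hxt hxs (hordN _ x.2)
        (fun he => hx1 (Subgroup.mem_bot.mpr (Subtype.ext he)))
      exact mem_C.mp (heq ▸ self_mem_C t)
  obtain ⟨K, hKset, hKn, hKnil⟩ := Cfsg.Agent.S0042.result A hFrob
  -- a nontrivial element of the kernel
  set x : N := ⟨t * m * t⁻¹ * m⁻¹, mul_mem (hN.conj_mem m hm t) (inv_mem hm)⟩ with hx
  have hx1 : x ≠ 1 := fun he => hmt (mem_C.mpr
    (mul_inv_eq_iff_eq_mul.mp (mul_inv_eq_one.mp (congrArg Subtype.val he))).symm)
  have hxK : x ∈ K := by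
    rw [← SetLike.mem_coe, hKset]
    refine Or.inr fun g hg => ?_
    rw [Subgroup.mem_pointwise_smul_iff_inv_smul_mem] at hg
    have hxg : (g : G)⁻¹ * x * g ∈ C t := by
      simpa [hA, Subgroup.mem_subgroupOf, MulAut.smul_def] using hg
    have hxinv : t * (x : G) * t⁻¹ = (x : G)⁻¹ := by
      show t * (t * m * t⁻¹ * m⁻¹) * t⁻¹ = (t * m * t⁻¹ * m⁻¹)⁻¹
      simp only [mul_inv_rev, inv_inv, hti]
      calc t * (t * m * t * m⁻¹) * t = (t * t) * m * t * m⁻¹ * t := by group
        _ = _ := by rw [htt, one_mul]; group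
    have hxs : (x : G) ∈ C ((g : G) * t * (g : G)⁻¹) := mem_C.mpr (by
      calc (x : G) * (g * t * (g : G)⁻¹) = g * (((g : G)⁻¹ * x * g) * t) * (g : G)⁻¹ := by group
        _ = g * (t * ((g : G)⁻¹ * x * g)) * (g : G)⁻¹ := by rw [mem_C.mp hxg]
        _ = g * t * (g : G)⁻¹ * x := by group)
    have hs : orderOf ((g : G) * t * (g : G)⁻¹) = 2 := by
      rw [← MulAut.conj_apply, MulEquiv.orderOf_eq, ht]
    have hx1' : (x : G) ≠ 1 := fun he => hx1 (Subtype.ext he)
    have htn : t ∈ Subgroup.normalizer ((Subgroup.zpowers (x : G) : Subgroup G) : Set G) := by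
      rw [Subgroup.mem_normalizer_iff]
      intro y
      constructor
      · intro hy
        obtain ⟨i, rfl⟩ := Subgroup.mem_zpowers_iff.mp hy
        rw [← conj_zpow, hxinv, inv_zpow]
        exact inv_mem (Subgroup.zpow_mem_zpowers _ i)
      · intro hy
        obtain ⟨i, hi⟩ := Subgroup.mem_zpowers_iff.mp hy
        have : y = (x : G) ^ (-i) := by
          rw [show y = t⁻¹ * (t * y * t⁻¹) * t by group, ← hi, zpow_neg, ← inv_zpow, ← hxinv,
            conj_zpow, hti]
        exact this ▸ Subgroup.zpow_mem_zpowers _ _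
    rw [h.normalizer_odd hs hxs (hordN _ x.2) hx1'] at htn
    have hgt : (g : G) ∈ C t := hconj g g.2 (mem_C.mp htn)
    have hxt : (x : G) ∈ C t := by
      have := mul_mem (mul_mem hgt hxg) (inv_mem hgt)
      rwa [show (g : G) * ((g : G)⁻¹ * x * g) * (g : G)⁻¹ = x by group] at this
    refine hx1' (h.eq_one_of_mem_O_two (k := 1) ht ⟨hxt, hordN _ x.2⟩ ?_)
    have e1 : (x : G) = (x : G)⁻¹ := by
      rw [← hxinv, ← mem_C.mp hxt, mul_inv_cancel_right]
    rw [pow_one, sq]
    exact mul_eq_one_iff_eq_inv.mpr e1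
  exfalso
  have hKF : K ≤ Cfsg.fittingSubgroup ↥N := CfsgLib.Solvable.le_fittingSubgroup hKn hKnil
  haveI := CfsgLib.Solvable.fittingSubgroup_characteristic ↥N
  haveI := CfsgLib.Solvable.fittingSubgroup_isNilpotent ↥N
  have hFn : ((Cfsg.fittingSubgroup ↥N).map N.subtype).Normal := inferInstance
  have hFs : Group.IsSolvable ↥((Cfsg.fittingSubgroup ↥N).map N.subtype) :=
    Group.isSolvable_of_surjective (f := ((Cfsg.fittingSubgroup ↥N).equivMapOfInjective N.subtype
      N.subtype_injective).toMonoidHom) (MulEquiv.surjective _)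
  have := h.rad _ hFn hFs
  rw [Subgroup.map_eq_bot_iff_of_injective _ N.subtype_injective] at this
  exact hx1 (Subgroup.mem_bot.mp (this ▸ hKF hxK))

end CfsgLib.CyclicNorm
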