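import Cfsg.Agent.Lib.CyclicNorm.TwoGroup
import Cfsg.Agent.Lib.CyclicNorm.Odd
import Cfsg.Agent.Lib.AbInvCent.Structure

/-!
# The Sylow `2`-subgroup is dihedral unless involution centralisers are abelian

Under the normaliser condition (with an involution present) either all involution centralisers are
abelian, or a Sylow `2`-subgroup is a four-group or dihedral with the expected action on the odd part
of the centraliser of its centre.
-/

set_option autoImplicit false
set_option linter.unusedSectionVars false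
set_option linter.style.haveILetI false

open scoped Pointwise

namespace CfsgLib.CyclicNorm

variable {G : Type*} [Group G] [Finite G]

theorem exists_involution_sqrt (T : Sylow 2 G) {x : G} (hx : x ∈ (T : Subgroup G))
    (hx2 : x * x ≠ 1) : ∃ r s : G, r ∈ Subgroup.zpowers x ∧ r * r = s ∧ orderOf s = 2 := by
  obtain ⟨s, hs, hs2⟩ := exists_involution_zpowers T (mul_mem hx hx) hx2
  obtain ⟨i, rfl⟩ := Subgroup.mem_zpowers_iff.mp hs
  exact ⟨x ^ i, _, Subgroup.zpow_mem_zpowers x i, ((Commute.refl x).mul_zpow i).symm, hs2⟩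

theorem orderOf_conj_eq {x g : G} : orderOf (g * x * g⁻¹) = orderOf x := by
  rw [← MulAut.conj_apply, MulEquiv.orderOf_eq]

/-- Two involutions are conjugate, or some involution commutes with both. -/
theorem conj_or_common {x y : G} (hx : orderOf x = 2) (hy : orderOf y = 2) :
    (∃ c : G, c * x * c⁻¹ = y) ∨ ∃ d : G, orderOf d = 2 ∧ Commute d x ∧ Commute d y := by
  have hxx : x * x = 1 := mul_self_of_orderOf hx
  have hyy : y * y = 1 := mul_self_of_orderOf hy
  have hxi : x⁻¹ = x := inv_eq_of_mul_eq_one_left hxx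
  have hyi : y⁻¹ = y := inv_eq_of_mul_eq_one_left hyy
  set p := x * y with hp
  have hconjx : ∀ n : ℕ, x * p ^ n * x⁻¹ = (p ^ n)⁻¹ := fun n => by
    rw [← conj_pow, ← inv_pow, hp, mul_inv_rev, hxi, hyi, ← mul_assoc x x, hxx, one_mul]
  rcases Nat.even_or_odd (orderOf p) with ⟨k, hk⟩ | ⟨k, hk⟩
  · right
    have hk0 : k ≠ 0 := fun h0 => (orderOf_pos p).ne' (by omega)
    have hd : orderOf (p ^ k) = 2 := by
      rw [orderOf_pow_of_dvd hk0 ⟨2, by omega⟩, hk, show k + k = 2 * k by ring,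
        Nat.mul_div_cancel _ (by omega : 0 < k)]
    have hdx : Commute (p ^ k) x := by
      have := hconjx k
      rw [inv_eq_of_mul_eq_one_left (mul_self_of_orderOf hd)] at this
      exact (mul_inv_eq_iff_eq_mul.mp this).symm
    refine ⟨p ^ k, hd, hdx, ?_⟩
    have h2 : Commute (p ^ k) (x * p) := hdx.mul_right (Commute.pow_self p k)
    rwa [hp, ← mul_assoc, hxx, one_mul] at h2
  · left
    refine ⟨(p ^ (k + 1))⁻¹, ?_⟩
    have h1 := mul_inv_eq_iff_eq_mul.mp (hconjx (k + 1))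
    rw [inv_inv, mul_assoc, h1, ← mul_assoc, ← mul_inv_rev, ← pow_add,
      show k + 1 + (k + 1) = orderOf p + 1 by omega, pow_succ, pow_orderOf_eq_one, one_mul, hp,
      mul_inv_rev, hxi, hyi, mul_assoc, hxx, mul_one]

variable (h : Hyp G)
include h

/-- An involution acting on the odd part of a centraliser either has a nontrivial fixed point or
inverts it. -/
theorem Hyp.cent_or_inv {t v : G} (ht : orderOf t = 2) (hv : orderOf v = 2) (hvt : v ∈ C t) :
    (∃ u ∈ O h ht, u ≠ 1 ∧ Commute v u) ∨ ∀ u ∈ O h ht, v * u * v⁻¹ = u⁻¹ := by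
  by_cases hex : ∃ u ∈ O h ht, u ≠ 1 ∧ Commute v u
  · exact Or.inl hex
  right
  intro u hu
  have hvu : v * u * v⁻¹ ∈ O h ht := h.conj_O ht hvt hu
  have hfix : Commute v (u * (v * u * v⁻¹)) := by
    refine mul_inv_eq_iff_eq_mul.mp ?_
    rw [show v * (u * (v * u * v⁻¹)) * v⁻¹ = (v * u * v⁻¹) * ((v * v) * u * (v * v)⁻¹) by group,
      mul_self_of_orderOf hv, one_mul, inv_one, mul_one]
    exact (h.O_comm ht hvu hu).eq
  by_contra hne
  exact hex ⟨_, mul_mem hu hvu, fun he => hne (eq_inv_of_mul_eq_one_right he), hfix⟩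

theorem Hyp.C_eq_of_fix {t v u : G} (ht : orderOf t = 2) (hv : orderOf v = 2) (hu : u ∈ O h ht)
    (hu1 : u ≠ 1) (hvu : Commute v u) : C v = C t :=
  h.C_eq_of_odd hv ht (mem_C.mpr hvu.symm.eq) hu.1 hu.2 hu1

/-- If two involutions with the same centraliser commute with an element of odd order then one of
them or their product has a fixed point. -/
theorem Hyp.exists_fix_of_two {t v w : G} (ht : orderOf t = 2) (hv : orderOf v = 2)
    (hw : orderOf w = 2) (hvt : v ∈ C t) (hwt : w ∈ C t) {u : G} (hu : u ∈ O h ht) (hu1 : u ≠ 1) :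
    ∃ u' ∈ O h ht, u' ≠ 1 ∧ (Commute v u' ∨ Commute w u' ∨ Commute (v * w) u') := by
  rcases h.cent_or_inv ht hv hvt with ⟨u', h1, h2, h3⟩ | hvi
  · exact ⟨u', h1, h2, Or.inl h3⟩
  rcases h.cent_or_inv ht hw hwt with ⟨u', h1, h2, h3⟩ | hwi
  · exact ⟨u', h1, h2, Or.inr (Or.inl h3)⟩
  refine ⟨u, hu, hu1, Or.inr (Or.inr (mul_inv_eq_iff_eq_mul.mp ?_))⟩
  rw [show v * w * u * (v * w)⁻¹ = v * (w * u * w⁻¹) * v⁻¹ by group, hwi u hu,
    hvi _ (inv_mem hu), inv_inv]

omit h [Finite G] in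
theorem mul_ne_and_ord {v w : G} (hv : orderOf v = 2) (hw : orderOf w = 2) (hne : v ≠ w)
    (hc : Commute v w) : orderOf (v * w) = 2 := by
  haveI := Fact.mk Nat.prime_two
  refine orderOf_eq_prime ?_ fun he => hne ?_
  · rw [hc.mul_pow, sq, sq, mul_self_of_orderOf hv, mul_self_of_orderOf hw, one_mul]
  · rw [mul_eq_one_iff_eq_inv.mp he, inv_eq_of_mul_eq_one_left (mul_self_of_orderOf hw)]

/-- No involution has all of its conjugates commuting. -/
theorem Hyp.not_class_commute {z : G} (hz : orderOf z = 2)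
    (hcom : ∀ g : G, Commute z (g * z * g⁻¹)) : False := by
  set S := Subgroup.normalClosure ({z} : Set G) with hS
  have hall : ∀ a ∈ Group.conjugatesOfSet ({z} : Set G), ∀ b ∈ Group.conjugatesOfSet ({z} : Set G),
      Commute a b := by
    intro a ha b hb
    rw [Group.mem_conjugatesOfSet_iff] at ha hb
    obtain ⟨_, rfl, hca⟩ := ha
    obtain ⟨_, rfl, hcb⟩ := hb
    obtain ⟨g, rfl⟩ := isConj_iff.mp hca
    obtain ⟨k, rfl⟩ := isConj_iff.mp hcb
    have := (hcom (g⁻¹ * k)).map (MulAut.conj g).toMonoidHom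
    simpa [mul_assoc] using this
  have hs : Group.IsSolvable ↥S := Group.isSolvable_of_comm fun a b => Subtype.ext <| by
    have h1 : S ≤ Subgroup.centralizer (Group.conjugatesOfSet ({z} : Set G)) :=
      (Subgroup.closure_le _).mpr fun x hx y hy => (hall y hy x hx).eq
    have h2 : S ≤ Subgroup.centralizer (S : Set G) :=
      (Subgroup.closure_le _).mpr fun x hx y hy => (h1 hy x hx).symm
    exact h2 b.2 a a.2
  have hS1 := h.rad S Subgroup.normalClosure_normal hs
  have hzS : z ∈ S := Subgroup.subset_normalClosure (Set.mem_singleton z)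
  rw [hS1] at hzS
  exact ne_one_of_orderOf hz (Subgroup.mem_bot.mp hzS)

/-- With two central involutions, every involution fused to a central one is central. -/
theorem Hyp.fused_central_of_two (hodd : ∀ N : Subgroup G, N.Normal → Odd (Nat.card N) → N = ⊥)
    (T : Sylow 2 G) {w w' b g : G} (hw : orderOf w = 2) (hw' : orderOf w' = 2) (hne : w ≠ w')
    (hwT : w ∈ (T : Subgroup G)) (hw'T : w' ∈ (T : Subgroup G))
    (hwc : ∀ y ∈ (T : Subgroup G), Commute w y) (hw'c : ∀ y ∈ (T : Subgroup G), Commute w' y)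
    (hb : b ∈ (T : Subgroup G)) (hg : ∀ y ∈ (T : Subgroup G), Commute (g * b * g⁻¹) y) :
    ∀ y ∈ (T : Subgroup G), Commute b y := by
  by_contra hnc
  obtain ⟨T', hmem, -, hno⟩ := h.exists_sylow_fused T hb hnc hg
  have hwT' := hmem w hwT (hwc b hb)
  have hw'T' := hmem w' hw'T (hw'c b hb)
  rcases h.sylow_structure hodd T' with hab | ⟨A, hAT, -, -, hAc, hout, hinv, hidx⟩
  · exact hno w hw hwc fun y hy => hab w hwT' y hy
  have hcen : ∀ x ∈ A, x * x = 1 → ∀ y ∈ (T' : Subgroup G), Commute x y := by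
    intro x hx hx2 y hy
    by_cases hyA : y ∈ A
    · exact hAc x hx y hyA
    · have := hinv y hy hyA x hx
      rw [inv_eq_of_mul_eq_one_left hx2] at this
      exact (mul_inv_eq_iff_eq_mul.mp this).symm
  have h1 : w ∉ A := fun hA => hno w hw hwc (hcen w hA (mul_self_of_orderOf hw))
  have h2 : w' ∉ A := fun hA => hno w' hw' hw'c (hcen w' hA (mul_self_of_orderOf hw'))
  have h3 := mul_ne_and_ord hw hw' hne (hwc w' hw'T)
  exact hno (w * w') h3 (fun y hy => (hwc y hy).mul_left (hw'c y hy))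
    (hcen _ (hidx w hwT' w' hw'T' h1 h2) (mul_self_of_orderOf h3))

/-- With two central involutions, noncentral involutions have no odd order centralising elements. -/
theorem Hyp.O_eq_one_of_two (T : Sylow 2 G) {w w' b : G} (hw : orderOf w = 2) (hw' : orderOf w' = 2)
    (hne : w ≠ w') (hwc : ∀ y ∈ (T : Subgroup G), Commute w y) (hw'T : w' ∈ (T : Subgroup G))
    (hw'c : ∀ y ∈ (T : Subgroup G), Commute w' y) (hb : orderOf b = 2) (hbT : b ∈ (T : Subgroup G))
    (hnc : ¬ ∀ y ∈ (T : Subgroup G), Commute b y) : ∀ u ∈ O h hb, u = 1 := by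
  intro u hu
  by_contra hu1
  have hfix : ∀ v : G, orderOf v = 2 → (∀ y ∈ (T : Subgroup G), Commute v y) →
      ∀ u' ∈ O h hb, u' ≠ 1 → Commute v u' → False := by
    intro v hv hvc u' hu' hu'1 hvu
    refine hnc fun y hy => ?_
    have : y ∈ C v := mem_C.mpr (hvc y hy).symm.eq
    rw [h.C_eq_of_fix hb hv hu' hu'1 hvu] at this
    exact (mem_C.mp this).symm
  obtain ⟨u', hu', hu'1, hh⟩ := h.exists_fix_of_two hb hw hw' (mem_C.mpr (hwc b hbT).eq)
    (mem_C.mpr (hw'c b hbT).eq) hu hu1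
  rcases hh with hh | hh | hh
  · exact hfix w hw hwc u' hu' hu'1 hh
  · exact hfix w' hw' hw'c u' hu' hu'1 hh
  · exact hfix _ (mul_ne_and_ord hw hw' hne (hwc w' hw'T))
      (fun y hy => (hwc y hy).mul_left (hw'c y hy)) u' hu' hu'1 hh

omit [Finite G] in
theorem Hyp.isPGroup_C [Finite G] {b : G} (hb : orderOf b = 2) (hO : ∀ u ∈ O h hb, u = 1) :
    IsPGroup 2 ↥(C b) := by
  intro x
  refine ⟨(orderOf (x : G)).factorization 2, Subtype.ext ?_⟩
  rw [Subgroup.coe_pow, Subgroup.coe_one]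
  refine hO _ ⟨pow_mem x.2 _, ?_⟩
  rw [orderOf_pow_of_dvd (pow_ne_zero _ two_ne_zero) (Nat.ordProj_dvd _ _)]
  exact Nat.not_even_iff_odd.mp fun hev =>
    Nat.not_dvd_ordCompl Nat.prime_two (orderOf_pos _).ne' hev.two_dvd

/-- A generalised dihedral Sylow `2`-subgroup has a centre of order two. -/
theorem Hyp.eq_of_central (hodd : ∀ N : Subgroup G, N.Normal → Odd (Nat.card N) → N = ⊥)
    (T : Sylow 2 G) (hTab : ¬ ∀ x ∈ (T : Subgroup G), ∀ y ∈ (T : Subgroup G), Commute x y)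
    {w w' : G} (hw : orderOf w = 2) (hw' : orderOf w' = 2) (hwT : w ∈ (T : Subgroup G))
    (hw'T : w' ∈ (T : Subgroup G)) (hwc : ∀ y ∈ (T : Subgroup G), Commute w y)
    (hw'c : ∀ y ∈ (T : Subgroup G), Commute w' y) : w = w' := by
  haveI := Fact.mk Nat.prime_two
  by_contra hne
  -- a conjugate of either of them lying in a Sylow subgroup is central in it
  have key : ∀ v : G, (v = w ∨ v = w') → ∀ (P : Sylow 2 G) (g : G),
      g * v * g⁻¹ ∈ (P : Subgroup G) → ∀ y ∈ (P : Subgroup G), Commute (g * v * g⁻¹) y := by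
    intro v hv P g hgP
    obtain ⟨k, hk⟩ := MulAction.exists_smul_eq G T P
    have hconj : ∀ x ∈ (T : Subgroup G), k * x * k⁻¹ ∈ (P : Subgroup G) := fun x hx => by
      have : k * x * k⁻¹ ∈ (k • T : Sylow 2 G) :=
        (CfsgLib.Transfer.mem_sylow_smul_iff k T _).mpr (by
          rwa [show k⁻¹ * (k * x * k⁻¹) * k = x by group])
      rwa [hk] at this
    have hcen : ∀ x : G, (∀ y ∈ (T : Subgroup G), Commute x y) →
        ∀ y ∈ (P : Subgroup G), Commute (k * x * k⁻¹) y := by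
      intro x hx y hy
      have hy' : k⁻¹ * y * k ∈ (T : Subgroup G) := by
        have : y ∈ (k • T : Sylow 2 G) := hk ▸ hy
        exact (CfsgLib.Transfer.mem_sylow_smul_iff k T y).mp this
      have := (hx _ hy').map (MulAut.conj k).toMonoidHom
      simpa [mul_assoc] using this
    have hvc : ∀ y ∈ (T : Subgroup G), Commute v y := by rcases hv with rfl | rfl <;> assumption
    refine h.fused_central_of_two hodd P (orderOf_conj_eq.trans hw) (orderOf_conj_eq.trans hw')
      (fun he => hne (mul_left_cancel (mul_right_cancel he))) (hconj w hwT) (hconj w' hw'T)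
      (hcen w hwc) (hcen w' hw'c) hgP (g := k * g⁻¹) ?_
    rw [show k * g⁻¹ * (g * v * g⁻¹) * (k * g⁻¹)⁻¹ = k * v * k⁻¹ by group]
    exact hcen v hvc
  obtain ⟨b, hbT, hb, hbnc⟩ : ∃ b ∈ (T : Subgroup G), orderOf b = 2 ∧
      ¬ ∀ y ∈ (T : Subgroup G), Commute b y := by
    rcases h.sylow_structure hodd T with hab | ⟨A, hAT, ⟨y, hy, hyA⟩, ⟨x, hx, hx2⟩, -, hout, hinv, -⟩
    · exact absurd hab hTab
    refine ⟨y, hy, orderOf_eq_prime (by rw [sq, hout y hy hyA]) fun he => hyA (he ▸ A.one_mem),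
      fun hc => hx2 ?_⟩
    have := hinv y hy hyA x hx
    rw [(hc x (hAT hx)).eq, mul_inv_cancel_right] at this
    exact mul_eq_one_iff_eq_inv.mpr this
  refine h.not_class_commute hw fun g => ?_
  set a := g * w * g⁻¹ with ha
  have hao : orderOf a = 2 := orderOf_conj_eq.trans hw
  rcases conj_or_common hao hb with ⟨c, hc⟩ | ⟨d, hd, hda, hdb⟩
  · exfalso
    refine hbnc ?_
    rw [← hc, show c * a * c⁻¹ = (c * g) * w * (c * g)⁻¹ by rw [ha]; group] at hbT ⊢
    exact key w (Or.inl rfl) T _ hbT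
  have hOb := h.O_eq_one_of_two T hw hw' hne hwc hw'T hw'c hb hbT hbnc
  obtain ⟨T₂, hT₂⟩ := (h.isPGroup_C hb hOb).exists_le_sylow
  have hwT₂ : w ∈ (T₂ : Subgroup G) := hT₂ (mem_C.mpr (hwc b hbT).eq)
  have hw'T₂ : w' ∈ (T₂ : Subgroup G) := hT₂ (mem_C.mpr (hw'c b hbT).eq)
  have hbT₂ : b ∈ (T₂ : Subgroup G) := hT₂ (self_mem_C b)
  have hdT₂ : d ∈ (T₂ : Subgroup G) := hT₂ (mem_C.mpr hdb.eq)
  have hwc₂ : ∀ y ∈ (T₂ : Subgroup G), Commute w y := by
    have := key w (Or.inl rfl) T₂ 1 (by simpa using hwT₂)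
    simpa using this
  have hw'c₂ : ∀ y ∈ (T₂ : Subgroup G), Commute w' y := by
    have := key w' (Or.inr rfl) T₂ 1 (by simpa using hw'T₂)
    simpa using this
  have hbnc₂ : ¬ ∀ y ∈ (T₂ : Subgroup G), Commute b y := by
    intro hc
    refine hbnc ?_
    obtain ⟨k, hk⟩ := MulAction.exists_smul_eq G T₂ T
    refine h.fused_central_of_two hodd T hw hw' hne hwT hw'T hwc hw'c hbT (g := k) ?_
    intro y hy
    have hy' : k⁻¹ * y * k ∈ (T₂ : Subgroup G) := by
      have : y ∈ (k • T₂ : Sylow 2 G) := hk ▸ hy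
      exact (CfsgLib.Transfer.mem_sylow_smul_iff k T₂ y).mp this
    have := (hc _ hy').map (MulAut.conj k).toMonoidHom
    simpa [mul_assoc] using this
  by_cases hdc : ∀ y ∈ (T₂ : Subgroup G), Commute d y
  · -- `d` is central: `w` centralises the whole centraliser of `d`
    obtain ⟨k, hk, y, hy, hky⟩ := h.exists_decomp hd T₂
      (fun y hy => mem_C.mpr (hdc y hy).symm.eq) (mem_C.mpr hda.symm.eq : a ∈ C d)
    have hwk : Commute w k := by
      by_cases hk1 : k = 1
      · rw [hk1]; exact Commute.one_right w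
      have hwd : w ∈ C d := mem_C.mpr (hwc₂ d hdT₂).eq
      have hbd : b ∈ C d := mem_C.mpr hdb.symm.eq
      rcases h.cent_or_inv hd hw hwd with ⟨u, hu, hu1, hwu⟩ | hwi
      · have hCw := h.C_eq_of_fix hd hw hu hu1 hwu
        exact (mem_C.mp (hCw ▸ hk.1 : k ∈ C w)).symm
      rcases h.cent_or_inv hd hb hbd with ⟨u, hu, hu1, hbu⟩ | hbi
      · exact absurd (hOb u ⟨mem_C.mpr hbu.symm.eq, hu.2⟩) hu1
      exfalso
      have hwb : Commute (w * b) k := mul_inv_eq_iff_eq_mul.mp (by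
        rw [show w * b * k * (w * b)⁻¹ = w * (b * k * b⁻¹) * w⁻¹ by group, hbi k hk,
          hwi _ (inv_mem hk), inv_inv])
      have hne' : w ≠ b := fun he => hbnc (he ▸ hwc)
      have hCwb := h.C_eq_of_fix hd (mul_ne_and_ord hw hb hne' (hwc b hbT)) hk hk1 hwb
      refine hbnc₂ fun z hz => ?_
      have h1 : z ∈ C (w * b) := by rw [hCwb]; exact mem_C.mpr (hdc z hz).symm.eq
      have h2 : Commute (w * b) z := (mem_C.mp h1).symm
      have h3 := (hwc₂ z hz).inv_left.mul_left h2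
      rwa [inv_mul_cancel_left] at h3
    rw [hky]
    exact hwk.mul_right (hwc₂ y hy)
  · -- `d` is not central: its centraliser is a `2`-group
    have hOd := h.O_eq_one_of_two T₂ hw hw' hne hwc₂ hw'T₂ hw'c₂ hd hdT₂ hdc
    obtain ⟨P, hP⟩ := (h.isPGroup_C hd hOd).exists_le_sylow
    exact (key w (Or.inl rfl) P g (hP (mem_C.mpr hda.symm.eq)) w
      (hP (mem_C.mpr (hwc₂ d hdT₂).eq))).symm

/-- The dihedral shape of a Sylow `2`-subgroup. -/
structure Dih (T : Sylow 2 G) (z a : G) : Prop where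
  ord : orderOf z = 2
  mem : a ∈ (T : Subgroup G)
  za : z ∈ Subgroup.zpowers a
  out : ∃ y ∈ (T : Subgroup G), y ∉ Subgroup.zpowers a
  sq : ∀ y ∈ (T : Subgroup G), y ∉ Subgroup.zpowers a → y * y = 1
  inv : ∀ y ∈ (T : Subgroup G), y ∉ Subgroup.zpowers a → y * a * y⁻¹ = a⁻¹
  idx : ∀ y ∈ (T : Subgroup G), ∀ y' ∈ (T : Subgroup G), y ∉ Subgroup.zpowers a →
    y' ∉ Subgroup.zpowers a → y * y' ∈ Subgroup.zpowers a
  oA : ∀ u ∈ O h ord, Commute a u
  oOut : ∀ u ∈ O h ord, ∀ y ∈ (T : Subgroup G), y ∉ Subgroup.zpowers a → y * u * y⁻¹ = u⁻¹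

/-- In the nonabelian case the Sylow `2`-subgroup is dihedral. -/
theorem Hyp.dih_of_nonabelian (hodd : ∀ N : Subgroup G, N.Normal → Odd (Nat.card N) → N = ⊥)
    (T : Sylow 2 G) (hTab : ¬ ∀ x ∈ (T : Subgroup G), ∀ y ∈ (T : Subgroup G), Commute x y) :
    ∃ z a : G, Dih h T z a := by
  haveI := Fact.mk Nat.prime_two
  rcases h.sylow_structure hodd T with hab | ⟨A, hAT, ⟨b, hb, hbA⟩, ⟨x, hx, hx2⟩, hAc, hout, hinv, hidx⟩
  · exact absurd hab hTab
  have hcen : ∀ v ∈ A, v * v = 1 → ∀ y ∈ (T : Subgroup G), Commute v y := by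
    intro v hv hv2 y hy
    by_cases hyA : y ∈ A
    · exact hAc v hv y hyA
    · have := hinv y hy hyA v hv
      rw [inv_eq_of_mul_eq_one_left hv2] at this
      exact (mul_inv_eq_iff_eq_mul.mp this).symm
  obtain ⟨z, hzx, hz⟩ := exists_involution_zpowers T (hAT hx) (ne_one_of_sq hx2)
  have hzA : z ∈ A := Subgroup.zpowers_le.mpr hx hzx
  have huniq : ∀ v ∈ A, orderOf v = 2 → v = z := fun v hv hv2 =>
    h.eq_of_central hodd T hTab hv2 hz (hAT hv) (hAT hzA) (hcen v hv (mul_self_of_orderOf hv2))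
      (hcen z hzA (mul_self_of_orderOf hz))
  classical
  haveI := Fintype.ofFinite G
  obtain ⟨a, haA', hmax⟩ := Finset.exists_max_image (Finset.univ.filter fun g : G => g ∈ A) orderOf
    ⟨1, by simp⟩
  have haA : a ∈ A := (Finset.mem_filter.mp haA').2
  have hz_a : z ∈ Subgroup.zpowers a := by
    have ha1 : a ≠ 1 := fun he => by
      have := hmax x (Finset.mem_filter.mpr ⟨Finset.mem_univ _, hx⟩)
      rw [he, orderOf_one] at this
      exact ne_one_of_sq hx2 (orderOf_eq_one_iff.mp (le_antisymm this (orderOf_pos x)))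
    obtain ⟨s, hs, hs2⟩ := exists_involution_zpowers T (hAT haA) ha1
    exact huniq s (Subgroup.zpowers_le.mpr haA hs) hs2 ▸ hs
  have hgen : ∀ n, ∀ v ∈ A, orderOf v = n → v ∈ Subgroup.zpowers a := by
    intro n
    induction n using Nat.strong_induction_on with
    | _ n ih =>
    intro v hv hvn
    by_cases hv2 : v * v = 1
    · by_cases hv1 : v = 1
      · rw [hv1]; exact one_mem _
      · rw [huniq v hv (orderOf_eq_prime (by rw [sq, hv2]) hv1)]; exact hz_a
    obtain ⟨m, hm⟩ := T.2 ⟨v, hAT hv⟩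
    have hm' : v ^ 2 ^ m = 1 := congrArg Subtype.val hm
    obtain ⟨k, -, hk⟩ := (Nat.dvd_prime_pow Nat.prime_two).mp (orderOf_dvd_of_pow_eq_one hm')
    have hk1 : 1 ≤ k := by
      by_contra h0
      rw [show k = 0 by omega, pow_zero] at hk
      exact ne_one_of_sq hv2 (orderOf_eq_one_iff.mp hk)
    have hvv : orderOf (v * v) = 2 ^ (k - 1) := by
      rw [← sq, orderOf_pow_of_dvd two_ne_zero (hk ▸ dvd_pow_self 2 (by omega)), hk,
        show k = k - 1 + 1 by omega, pow_succ, Nat.mul_div_cancel _ two_pos, Nat.add_sub_cancel]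
    have hlt : orderOf (v * v) < n := by
      rw [hvv, ← hvn, hk]; exact Nat.pow_lt_pow_right (by norm_num) (by omega)
    obtain ⟨i, hi⟩ := Subgroup.mem_zpowers_iff.mp (ih _ hlt _ (mul_mem hv hv) rfl)
    rcases Int.even_or_odd i with ⟨j, rfl⟩ | ⟨j, rfl⟩
    · have hva : Commute v (a ^ j) := (hAc v hv a haA).zpow_right j
      have hw : v * (a ^ j)⁻¹ ∈ Subgroup.zpowers a := by
        by_cases hw1 : v * (a ^ j)⁻¹ = 1
        · rw [hw1]; exact one_mem _
        · rw [huniq _ (mul_mem hv (inv_mem (A.zpow_mem haA j)))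
            (orderOf_eq_prime (by
              rw [hva.inv_right.mul_pow, sq, sq, ← hi, zpow_add]; group) hw1)]
          exact hz_a
      have := mul_mem hw (Subgroup.zpow_mem_zpowers a j)
      rwa [inv_mul_cancel_right] at this
    · exfalso
      obtain ⟨m', hm'⟩ := T.2 ⟨a, hAT haA⟩
      obtain ⟨l, -, hl⟩ := (Nat.dvd_prime_pow Nat.prime_two).mp
        (orderOf_dvd_of_pow_eq_one (congrArg Subtype.val hm' : a ^ 2 ^ m' = 1))
      have hcop : Nat.Coprime ((2 * j + 1 : ℤ).natAbs) (orderOf a) := by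
        rw [hl]
        refine Nat.Coprime.pow_right _ (Nat.coprime_two_right.mpr ?_)
        exact Int.natAbs_odd.mpr ⟨j, rfl⟩
      have hge : orderOf (v * v) = orderOf a := by
        rw [← hi]
        rcases Int.natAbs_eq (2 * j + 1) with e | e <;> rw [e]
        · rw [zpow_natCast]; exact Nat.Coprime.orderOf_pow hcop.symm
        · rw [zpow_neg, orderOf_inv, zpow_natCast]; exact Nat.Coprime.orderOf_pow hcop.symm
      have := hmax v (Finset.mem_filter.mpr ⟨Finset.mem_univ _, hv⟩)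
      omega
  have hA : A = Subgroup.zpowers a :=
    le_antisymm (fun v hv => hgen _ v hv rfl) (Subgroup.zpowers_le.mpr haA)
  subst hA
  have hOut : ∀ y ∈ (T : Subgroup G), y ∉ Subgroup.zpowers a → ∀ u ∈ O h hz,
      y * u * y⁻¹ = u⁻¹ := by
    intro y hy hyA u hu
    have hyo : orderOf y = 2 := orderOf_eq_prime (by rw [sq, hout y hy hyA])
      fun he => hyA (he ▸ one_mem _)
    rcases h.cent_or_inv hz hyo (mem_C.mpr (hcen z hzA (mul_self_of_orderOf hz) y hy).symm.eq) with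
      ⟨u', hu', hu'1, hyu⟩ | hyi
    · exfalso
      refine hx2 ?_
      have hxy : x ∈ C y := by
        rw [h.C_eq_of_fix hz hyo hu' hu'1 hyu]
        exact mem_C.mpr (hcen z hzA (mul_self_of_orderOf hz) x (hAT hx)).symm.eq
      have := hinv y hy hyA x hx
      rw [← mem_C.mp hxy, mul_inv_cancel_right] at this
      exact mul_eq_one_iff_eq_inv.mpr this
    · exact hyi u hu
  refine ⟨z, a, hz, hAT haA, hz_a, ⟨b, hb, hbA⟩, hout, fun y hy hyA => hinv y hy hyA a haA, hidx,
    fun u hu => ?_, fun u hu y hy hyA => hOut y hy hyA u hu⟩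
  have hba : b * a ∉ Subgroup.zpowers a := fun hm => hbA (by
    simpa using mul_mem hm (inv_mem (Subgroup.mem_zpowers a)))
  have h1 := hOut _ (mul_mem hb (hAT haA)) hba u hu
  rw [show b * a * u * (b * a)⁻¹ = b * (a * u * a⁻¹) * b⁻¹ by group] at h1
  have h2 := hOut b hb hbA u hu
  exact mul_inv_eq_iff_eq_mul.mp (mul_left_cancel (mul_right_cancel (h1.trans h2.symm)))

/-- An abelian Sylow `2`-subgroup is elementary or all involution centralisers in it act trivially
on their odd parts. -/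
theorem Hyp.sq_eq_one_of_moves (hodd : ∀ N : Subgroup G, N.Normal → Odd (Nat.card N) → N = ⊥)
    (T : Sylow 2 G) (hab : ∀ x ∈ (T : Subgroup G), ∀ y ∈ (T : Subgroup G), Commute x y) {t u c : G}
    (ht : orderOf t = 2) (htT : t ∈ (T : Subgroup G)) (hu : u ∈ O h ht) (hc : c ∈ (T : Subgroup G))
    (hcu : ¬ Commute c u) : ∀ x ∈ (T : Subgroup G), x * x = 1 := by
  haveI := Fact.mk Nat.prime_two
  have hu1 : u ≠ 1 := fun he => hcu (he ▸ Commute.one_right c)
  let S0 : G → Prop := fun y => ∀ v ∈ O h ht, Commute y v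
  have hinv : ∀ s ∈ (T : Subgroup G), orderOf s = 2 → ¬ S0 s →
      ∀ v ∈ O h ht, s * v * s⁻¹ = v⁻¹ := by
    intro s hs hs2 hS
    rcases h.cent_or_inv ht hs2 (mem_C.mpr (hab s hs t htT).eq) with ⟨v, hv, hv1, hsv⟩ | hi
    · refine absurd (fun v' hv' => ?_) hS
      have := (h.C_eq_of_fix ht hs2 hv hv1 hsv).symm ▸ hv'.1
      exact (mem_C.mp this).symm
    · exact hi
  have hpow : ∀ y, S0 y → ∀ r ∈ Subgroup.zpowers y, S0 r := by
    intro y hy r hr v hv
    obtain ⟨i, rfl⟩ := Subgroup.mem_zpowers_iff.mp hr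
    exact (hy v hv).zpow_left i
  have hS0 : ∀ y ∈ (T : Subgroup G), ∀ d ∈ Subgroup.zpowers y, orderOf d = 2 → S0 d → S0 y := by
    intro y hy d hd hd2 hS v hv
    have hvd : v ∈ C d := mem_C.mpr (hS v hv).symm.eq
    have h1 : v * y * v⁻¹ * y⁻¹ ∈ Subgroup.zpowers y :=
      mul_mem (h.conj_mem hd2 hd (Subgroup.mem_zpowers y) hvd) (inv_mem (Subgroup.mem_zpowers y))
    have h2 : v * y * v⁻¹ * y⁻¹ ∈ O h ht := by
      rw [show v * y * v⁻¹ * y⁻¹ = v * (y * v⁻¹ * y⁻¹) by group]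
      exact mul_mem hv (h.conj_O ht (mem_C.mpr (hab y hy t htT).eq) (inv_mem hv))
    obtain ⟨n, hn⟩ := T.2 ⟨_, Subgroup.zpowers_le.mpr hy h1⟩
    have h3 := h.eq_one_of_mem_O_two ht h2 (congrArg Subtype.val hn)
    exact (mul_inv_eq_iff_eq_mul.mp (mul_inv_eq_one.mp h3)).symm
  have hnc : ¬ S0 c := fun hS => hcu (hS u hu)
  -- an involution outside the kernel
  obtain ⟨e, heT, he2, heS⟩ : ∃ e ∈ (T : Subgroup G), orderOf e = 2 ∧ ¬ S0 e := by
    obtain ⟨d, hd, hd2⟩ := exists_involution_zpowers T hc fun he => hcu (he ▸ Commute.one_left u)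
    exact ⟨d, Subgroup.zpowers_le.mpr hc hd, hd2, fun hS => hnc (hS0 c hc d hd hd2 hS)⟩
  -- the kernel has exponent two
  have hker : ∀ y ∈ (T : Subgroup G), S0 y → y * y = 1 := by
    intro y hy hS
    by_contra hy2
    obtain ⟨d, hd, hd2⟩ := exists_involution_zpowers T (mul_mem hy hy) hy2
    have he' : e * y * (e * y) = y * y := by
      rw [mul_assoc, ← mul_assoc y, (hab y hy e heT).eq, mul_assoc e y, ← mul_assoc e e,
        mul_self_of_orderOf he2, one_mul]
    have hd' : d ∈ Subgroup.zpowers (e * y) := by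
      rw [← he'] at hd
      exact Subgroup.zpowers_le.mpr
        (mul_mem (Subgroup.mem_zpowers _) (Subgroup.mem_zpowers _)) hd
    have h1 : S0 (e * y) := hS0 _ (mul_mem heT hy) d hd' hd2
      (hpow y hS d (Subgroup.zpowers_le.mpr
        (mul_mem (Subgroup.mem_zpowers y) (Subgroup.mem_zpowers y)) hd))
    refine heS fun v hv => ?_
    have h2 := (h1 v hv).mul_left (hS v hv).inv_left
    rwa [mul_inv_cancel_right] at h2
  by_contra hex
  push Not at hex
  obtain ⟨x, hx, hx2⟩ := hex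
  -- squares have a single involution
  have huniq : ∀ r r' s s' : G, r ∈ (T : Subgroup G) → r' ∈ (T : Subgroup G) → r * r = s →
      r' * r' = s' → orderOf s = 2 → orderOf s' = 2 → s = s' := by
    intro r r' s s' hr hr' hrs hrs' hs hs'
    by_contra hne
    have hsT : s ∈ (T : Subgroup G) := hrs ▸ mul_mem hr hr
    have hsT' : s' ∈ (T : Subgroup G) := hrs' ▸ mul_mem hr' hr'
    have n1 : ¬ S0 r := fun hS => ne_one_of_orderOf hs (hrs ▸ hker r hr hS)
    have n2 : ¬ S0 r' := fun hS => ne_one_of_orderOf hs' (hrs' ▸ hker r' hr' hS)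
    have hsr : s ∈ Subgroup.zpowers r := hrs ▸
      mul_mem (Subgroup.mem_zpowers r) (Subgroup.mem_zpowers r)
    have hsr' : s' ∈ Subgroup.zpowers r' := hrs' ▸
      mul_mem (Subgroup.mem_zpowers r') (Subgroup.mem_zpowers r')
    have i1 := hinv s hsT hs fun hS => n1 (hS0 r hr s hsr hs hS)
    have i2 := hinv s' hsT' hs' fun hS => n2 (hS0 r' hr' s' hsr' hs' hS)
    have hS : S0 (s * s') := fun v hv => mul_inv_eq_iff_eq_mul.mp (by
      rw [show s * s' * v * (s * s')⁻¹ = s * (s' * v * s'⁻¹) * s⁻¹ by group, i2 v hv,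
        i1 _ (inv_mem hv), inv_inv])
    have e1 : r * r' * (r * r') = s * s' := by
      rw [← hrs, ← hrs', mul_assoc, ← mul_assoc r', (hab r' hr' r hr).eq]; group
    have h3 := mul_ne_and_ord hs hs' hne (hab s hsT s' hsT')
    have hS' : S0 (r * r') := hS0 _ (mul_mem hr hr') (s * s')
      (e1 ▸ mul_mem (Subgroup.mem_zpowers _) (Subgroup.mem_zpowers _)) h3 hS
    exact ne_one_of_orderOf h3 (e1 ▸ hker _ (mul_mem hr hr') hS')
  obtain ⟨r, s, hrx, hrs, hs⟩ := exists_involution_sqrt T hx hx2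
  have hr : r ∈ (T : Subgroup G) := Subgroup.zpowers_le.mpr hx hrx
  have hsT : s ∈ (T : Subgroup G) := hrs ▸ mul_mem hr hr
  refine h.not_isolated hodd T hs fun g hg => ?_
  obtain ⟨n, hn, hne⟩ := T.conj_eq_normalizer_conj_of_mem_centralizer s g⁻¹
    (fun y hy => (hab y hy s hsT).eq)
    (fun y hy => by rw [inv_inv]; exact (hab y hy _ hg).eq)
  rw [inv_inv] at hne
  rw [hne]
  refine (huniq (n⁻¹ * r * n) r _ s ((Subgroup.mem_normalizer_iff''.mp hn r).mp hr) hr ?_ hrs ?_ hs)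
  · rw [← hrs]; group
  · rw [show n⁻¹ * s * n = n⁻¹ * s * n⁻¹⁻¹ by group, orderOf_conj_eq, hs]

/-- In the abelian case a nontrivial action makes the Sylow `2`-subgroup a four group. -/
theorem Hyp.dih_of_moves (hodd : ∀ N : Subgroup G, N.Normal → Odd (Nat.card N) → N = ⊥)
    (T : Sylow 2 G) (hab : ∀ x ∈ (T : Subgroup G), ∀ y ∈ (T : Subgroup G), Commute x y) {t u c : G}
    (ht : orderOf t = 2) (htT : t ∈ (T : Subgroup G)) (hu : u ∈ O h ht) (hc : c ∈ (T : Subgroup G))
    (hcu : ¬ Commute c u) : Dih h T t t := by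
  haveI := Fact.mk Nat.prime_two
  have hsq := h.sq_eq_one_of_moves hodd T hab ht htT hu hc hcu
  have hu1 : u ≠ 1 := fun he => hcu (he ▸ Commute.one_right c)
  have hord : ∀ y ∈ (T : Subgroup G), y ≠ 1 → orderOf y = 2 := fun y hy hy1 =>
    orderOf_eq_prime (by rw [sq, hsq y hy]) hy1
  let S0 : G → Prop := fun y => ∀ v ∈ O h ht, Commute y v
  have htS : S0 t := fun v hv => (mem_C.mp hv.1).symm
  have hinv : ∀ s ∈ (T : Subgroup G), ¬ S0 s → ∀ v ∈ O h ht, s * v * s⁻¹ = v⁻¹ := by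
    intro s hs hS
    have hs1 : s ≠ 1 := fun he => hS fun v _ => he ▸ Commute.one_left v
    rcases h.cent_or_inv ht (hord s hs hs1) (mem_C.mpr (hab s hs t htT).eq) with
      ⟨v, hv, hv1, hsv⟩ | hi
    · refine absurd (fun v' hv' => ?_) hS
      have := (h.C_eq_of_fix ht (hord s hs hs1) hv hv1 hsv).symm ▸ hv'.1
      exact (mem_C.mp this).symm
    · exact hi
  have hC : ∀ y, S0 y → orderOf y = 2 → C y = C t := fun y hy hy2 =>
    h.C_eq_of_fix ht hy2 hu hu1 (hy u hu)
  have hnc : ¬ S0 c := fun hS => hcu (hS u hu)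
  have hc2 : orderOf c = 2 := hord c hc fun he => hcu (he ▸ Commute.one_left u)
  -- the kernel is `{1, t}`
  have hker : ∀ z ∈ (T : Subgroup G), S0 z → z = 1 ∨ z = t := by
    intro z hz hzS
    by_contra hzz
    push Not at hzz
    obtain ⟨hz1, hzt⟩ := hzz
    have hz2 := hord z hz hz1
    have hO1 : ∀ s ∈ (T : Subgroup G), ¬ S0 s → ∀ hs : orderOf s = 2, ∀ v ∈ O h hs, v = 1 := by
      intro s hs hS hs2 v hv
      by_contra hv1
      obtain ⟨v', hv', hv'1, hh⟩ := h.exists_fix_of_two hs2 ht hz2 (mem_C.mpr (hab t htT s hs).eq)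
        (mem_C.mpr (hab z hz s hs).eq) hv hv1
      have hfix : ∀ w, orderOf w = 2 → S0 w → Commute w v' → False := by
        intro w hw hwS hwv
        refine hS fun x hx => ?_
        have : x ∈ C s := by rw [← h.C_eq_of_fix hs2 hw hv' hv'1 hwv, hC w hwS hw]; exact hx.1
        exact (mem_C.mp this).symm
      rcases hh with hh | hh | hh
      · exact hfix t ht htS hh
      · exact hfix z hz2 hzS hh
      · exact hfix _ (mul_ne_and_ord ht hz2 (Ne.symm hzt) (hab t htT z hz))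
          (fun x hx => (htS x hx).mul_left (hzS x hx)) hh
    have hclass : ∀ g : G, g * t * g⁻¹ ∈ (T : Subgroup G) → S0 (g * t * g⁻¹) := by
      intro g hg
      by_contra hS
      have ho : orderOf (g * t * g⁻¹) = 2 := orderOf_conj_eq.trans ht
      have := hO1 _ hg hS ho (g * u * g⁻¹) ⟨mem_C.mpr (by
        rw [show g * u * g⁻¹ * (g * t * g⁻¹) = g * (u * t) * g⁻¹ by group, mem_C.mp hu.1]; group),
        (orderOf_conj_eq (x := u) (g := g)).symm ▸ hu.2⟩
      exact hu1 (conj_eq_one_iff.mp this)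
    have hall : ∀ g : G, g * t * g⁻¹ ∈ (T : Subgroup G) := by
      intro g
      set a := g * t * g⁻¹ with hadef
      have hao : orderOf a = 2 := orderOf_conj_eq.trans ht
      rcases conj_or_common hao hc2 with ⟨k, hk⟩ | ⟨d, hd, hda, hdc⟩
      · refine absurd ?_ hnc
        rw [← hk, show k * a * k⁻¹ = k * g * t * (k * g)⁻¹ by rw [hadef]; group] at hc ⊢
        exact hclass _ hc
      have hdT : d ∈ (T : Subgroup G) := by
        obtain ⟨k, hk, y, hy, hky⟩ := h.exists_decomp hc2 T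
          (fun y hy => mem_C.mpr (hab y hy c hc).eq) (mem_C.mpr hdc.eq : d ∈ C c)
        rw [hky, hO1 c hc hnc hc2 k hk, one_mul]; exact hy
      by_cases hdS : S0 d
      · have had : a ∈ C t := hC d hdS hd ▸ mem_C.mpr hda.symm.eq
        obtain ⟨k, hk, y, hy, hky⟩ := h.exists_decomp ht T
          (fun y hy => mem_C.mpr (hab y hy t htT).eq) had
        have hyy := hsq y hy
        have h2 : k * (y * k * y⁻¹) = 1 := by
          rw [inv_eq_of_mul_eq_one_left hyy,
            show k * (y * k * y) = (k * y) * (k * y) by group, ← hky, mul_self_of_orderOf hao]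
        by_cases hyS : S0 y
        · rw [(hyS k hk).eq, mul_inv_cancel_right] at h2
          rw [hky, h.eq_one_of_mem_O_two (k := 1) ht hk (by rw [pow_one, sq, h2]), one_mul]
          exact hy
        · exfalso
          obtain ⟨m, hm⟩ := hk.2
          have hl : k ^ (m + 1) ∈ O h ht := pow_mem hk _
          have hconj : k ^ (m + 1) * y * (k ^ (m + 1))⁻¹ = k * y := by
            have e1 : y * (k ^ (m + 1))⁻¹ = k ^ (m + 1) * y := by
              have := hinv y hy hyS _ (inv_mem hl)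
              rw [inv_inv] at this
              exact mul_inv_eq_iff_eq_mul.mp this
            rw [mul_assoc, e1, ← mul_assoc, ← pow_add,
              show m + 1 + (m + 1) = orderOf k + 1 by omega, pow_succ, pow_orderOf_eq_one, one_mul]
          refine hyS ?_
          have e2 : y = ((k ^ (m + 1))⁻¹ * g) * t * ((k ^ (m + 1))⁻¹ * g)⁻¹ := by
            calc y = (k ^ (m + 1))⁻¹ * (k ^ (m + 1) * y * (k ^ (m + 1))⁻¹) * k ^ (m + 1) := by group
              _ = _ := by rw [hconj, ← hky, hadef]; group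
          rw [e2] at hy ⊢
          exact hclass _ hy
      · obtain ⟨k, hk, y, hy, hky⟩ := h.exists_decomp hd T
          (fun y hy => mem_C.mpr (hab y hy d hdT).eq) (mem_C.mpr hda.symm.eq : a ∈ C d)
        rw [hky, hO1 d hdT hdS hd k hk, one_mul]; exact hy
    exact h.not_class_commute ht fun g => hab t htT _ (hall g)
  have hmem : ∀ y ∈ (T : Subgroup G), y ∉ Subgroup.zpowers t → ¬ S0 y := by
    intro y hy hyt hS
    rcases hker y hy hS with rfl | rfl
    · exact hyt (one_mem _)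
    · exact hyt (Subgroup.mem_zpowers y)
  refine ⟨ht, htT, Subgroup.mem_zpowers t, ⟨c, hc, fun hm => hnc ?_⟩, fun y hy _ => hsq y hy,
    fun y hy _ => ?_, fun y hy y' hy' hyt hy't => ?_, htS, fun v hv y hy hyt => hinv y hy (hmem y hy hyt) v hv⟩
  · obtain ⟨i, rfl⟩ := Subgroup.mem_zpowers_iff.mp hm
    exact fun v hv => (htS v hv).zpow_left i
  · rw [(hab y hy t htT).eq, mul_inv_cancel_right,
      inv_eq_of_mul_eq_one_left (mul_self_of_orderOf ht)]
  · have hS : S0 (y * y') := fun v hv => mul_inv_eq_iff_eq_mul.mp (by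
      rw [show y * y' * v * (y * y')⁻¹ = y * (y' * v * y'⁻¹) * y⁻¹ by group,
        hinv y' hy' (hmem y' hy' hy't) v hv, hinv y hy (hmem y hy hyt) _ (inv_mem hv), inv_inv])
    rcases hker _ (mul_mem hy hy') hS with he | he <;> rw [he]
    · exact one_mem _
    · exact Subgroup.mem_zpowers t

/-- Either all involution centralisers are abelian, or the Sylow `2`-subgroup has dihedral shape. -/
theorem Hyp.abelian_or_dih {t₀ : G} (ht₀ : orderOf t₀ = 2) (T : Sylow 2 G) :
    (∀ t : G, orderOf t = 2 → IsMulCommutative ↥(C t)) ∨ ∃ z a : G, Dih h T z a := by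
  haveI := Fact.mk Nat.prime_two
  have hodd : ∀ N : Subgroup G, N.Normal → Odd (Nat.card N) → N = ⊥ :=
    fun N hN hNo => h.odd_normal ht₀ N hN hNo
  by_cases hab : ∀ x ∈ (T : Subgroup G), ∀ y ∈ (T : Subgroup G), Commute x y
  swap
  · exact Or.inr (h.dih_of_nonabelian hodd T hab)
  by_cases hmv : ∀ t, ∀ ht : orderOf t = 2, t ∈ (T : Subgroup G) → ∀ u ∈ O h ht,
      ∀ c ∈ (T : Subgroup G), Commute c u
  swap
  · push Not at hmv
    obtain ⟨t, ht, htT, u, hu, c, hc, hcu⟩ := hmv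
    exact Or.inr ⟨t, t, h.dih_of_moves hodd T hab ht htT hu hc hcu⟩
  left
  intro v hv
  obtain ⟨P, hvP⟩ : ∃ P : Sylow 2 G, v ∈ (P : Subgroup G) := by
    have hp : IsPGroup 2 ↥(Subgroup.zpowers v) :=
      IsPGroup.of_card (n := 1) (by rw [Nat.card_zpowers, hv, pow_one])
    obtain ⟨P, hP⟩ := hp.exists_le_sylow
    exact ⟨P, hP (Subgroup.mem_zpowers v)⟩
  obtain ⟨k, hk⟩ := MulAction.exists_smul_eq G P T
  set t := k * v * k⁻¹ with htdef
  have htT : t ∈ (T : Subgroup G) := by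
    have : t ∈ (k • P : Sylow 2 G) := (CfsgLib.Transfer.mem_sylow_smul_iff k P _).mpr (by
      rwa [htdef, show k⁻¹ * (k * v * k⁻¹) * k = v by group])
    rwa [hk] at this
  have ht : orderOf t = 2 := orderOf_conj_eq.trans hv
  have hcomm : ∀ p ∈ C t, ∀ q ∈ C t, Commute p q := by
    intro p hp q hq
    have hT : (T : Subgroup G) ≤ C t := fun y hy => mem_C.mpr (hab y hy t htT).eq
    obtain ⟨k₁, hk₁, y₁, hy₁, rfl⟩ := h.exists_decomp ht T hT hp
    obtain ⟨k₂, hk₂, y₂, hy₂, rfl⟩ := h.exists_decomp ht T hT hq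
    exact ((h.O_comm ht hk₁ hk₂).mul_right (hmv t ht htT k₁ hk₁ y₂ hy₂).symm).mul_left
      ((hmv t ht htT k₂ hk₂ y₁ hy₁).mul_right (hab y₁ hy₁ y₂ hy₂))
  refine ⟨⟨fun ⟨p, hp⟩ ⟨q, hq⟩ => Subtype.ext ?_⟩⟩
  have hm : ∀ x ∈ C v, k * x * k⁻¹ ∈ C t := fun x hx => mem_C.mpr (by
    rw [htdef, show k * x * k⁻¹ * (k * v * k⁻¹) = k * (x * v) * k⁻¹ by group, mem_C.mp hx]; group)
  have := (hcomm _ (hm p hp) _ (hm q hq)).map (MulAut.conj k⁻¹).toMonoidHom
  simpa [mul_assoc] using this.eq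

end CfsgLib.CyclicNorm
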