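import Cfsg.Agent.Lib.CyclicNorm.Basic
import Cfsg.Agent.Lib.Invol.GlaubermanZStar
import Cfsg.Agent.Lib.Transfer.Fusion

/-!
# The Sylow `2`-subgroups under the normaliser condition

A Sylow `2`-subgroup is abelian, or has an abelian subgroup of index `2` and exponent at least `4`
which all outside elements invert.
-/

set_option autoImplicit false
set_option linter.unusedSectionVars false
set_option linter.style.haveILetI false

namespace CfsgLib.CyclicNorm

variable {G : Type*} [Group G] [Finite G]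

/-- A nontrivial element of a `2`-subgroup has a power of order `2`. -/
theorem exists_involution_zpowers (T : Sylow 2 G) {x : G} (hx : x ∈ (T : Subgroup G))
    (hx1 : x ≠ 1) : ∃ s ∈ Subgroup.zpowers x, orderOf s = 2 := by
  obtain ⟨n, hn⟩ := T.2 ⟨x, hx⟩
  have hn' : x ^ 2 ^ n = 1 := congrArg Subtype.val hn
  obtain ⟨m, -, hm⟩ := (Nat.dvd_prime_pow Nat.prime_two).mp (orderOf_dvd_of_pow_eq_one hn')
  have hm0 : 1 ≤ m := by
    by_contra h0
    rw [show m = 0 by omega, pow_zero] at hm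
    exact hx1 (orderOf_eq_one_iff.mp hm)
  refine ⟨x ^ 2 ^ (m - 1), Subgroup.npow_mem_zpowers x _, ?_⟩
  rw [orderOf_pow_of_dvd (pow_ne_zero _ two_ne_zero) (hm ▸ pow_dvd_pow 2 (by omega)), hm,
    Nat.pow_div (by omega) two_pos, show m - (m - 1) = 1 by omega, pow_one]

theorem ne_one_of_sq {x : G} (hx : x * x ≠ 1) : x ≠ 1 := fun h => hx (by rw [h, mul_one])

variable (h : Hyp G)
include h

/-- A noncentral involution of `T` which is conjugate to a central one. -/
theorem Hyp.exists_sylow_fused (T : Sylow 2 G) {b g : G} (hb : b ∈ (T : Subgroup G))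
    (hnc : ¬ ∀ y ∈ (T : Subgroup G), Commute b y)
    (hg : ∀ y ∈ (T : Subgroup G), Commute (g * b * g⁻¹) y) :
    ∃ T' : Sylow 2 G, (∀ v ∈ (T : Subgroup G), Commute v b → v ∈ (T' : Subgroup G)) ∧
      (∀ y ∈ (T' : Subgroup G), Commute b y) ∧
      ∀ w : G, orderOf w = 2 → (∀ y ∈ (T : Subgroup G), Commute w y) →
        ¬ ∀ y ∈ (T' : Subgroup G), Commute w y := by
  haveI := Fact.mk Nat.prime_two
  have hle : ((g⁻¹ • T : Sylow 2 G) : Subgroup G) ≤ C b := by
    intro y hy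
    have hy' : g * y * g⁻¹ ∈ (T : Subgroup G) := by
      have := (CfsgLib.Transfer.mem_sylow_smul_iff g⁻¹ T y).mp hy
      rw [inv_inv] at this
      exact this
    have hc := (hg _ hy').eq
    refine mem_C.mpr ?_
    calc y * b = g⁻¹ * ((g * y * g⁻¹) * (g * b * g⁻¹)) * g := by group
      _ = g⁻¹ * ((g * b * g⁻¹) * (g * y * g⁻¹)) * g := by rw [hc]
      _ = b * y := by group
  set Q := ((T : Subgroup G) ⊓ C b).subgroupOf (C b) with hQdef
  have hQ : IsPGroup 2 Q :=
    (T.2.to_le inf_le_left).comap_of_injective (C b).subtype (C b).subtype_injective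
  obtain ⟨S', hS'⟩ := hQ.exists_le_sylow
  obtain ⟨c, hc⟩ := MulAction.exists_smul_eq (C b) ((g⁻¹ • T).subtype hle) S'
  rw [Sylow.smul_subtype] at hc
  have hmem : ∀ v ∈ (T : Subgroup G), Commute v b →
      v ∈ ((c • (g⁻¹ • T) : Sylow 2 G) : Subgroup G) := by
    intro v hv hvb
    have hv' : (⟨v, mem_C.mpr hvb.eq⟩ : C b) ∈ Q :=
      Subgroup.mem_subgroupOf.mpr ⟨hv, mem_C.mpr hvb.eq⟩
    have := hS' hv'
    rw [← hc] at this
    exact this
  have hcen : ∀ y ∈ ((c • (g⁻¹ • T) : Sylow 2 G) : Subgroup G), Commute b y := by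
    intro y hy
    have h1 : (c : G)⁻¹ * y * c ∈ C b :=
      hle ((CfsgLib.Transfer.mem_sylow_smul_iff (c : G) (g⁻¹ • T) y).mp hy)
    have h2 := mul_mem (mul_mem c.2 h1) (inv_mem c.2)
    rw [show (c : G) * ((c : G)⁻¹ * y * c) * (c : G)⁻¹ = y by group] at h2
    exact (mem_C.mp h2).symm
  refine ⟨_, hmem, hcen, fun w hw hwT hw' => hnc ?_⟩
  exact h.central_of_central hw T _ (fun y hy => mem_C.mpr (hwT y hy).symm.eq)
    (fun y hy => mem_C.mpr (hw' y hy).symm.eq) hb hcen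

/-- Such an involution has an elementary abelian centraliser in `T`. -/
theorem Hyp.fused_sq (T : Sylow 2 G) {b g v : G} (hb : b ∈ (T : Subgroup G))
    (hnc : ¬ ∀ y ∈ (T : Subgroup G), Commute b y)
    (hg : ∀ y ∈ (T : Subgroup G), Commute (g * b * g⁻¹) y) (hv : v ∈ (T : Subgroup G))
    (hvb : Commute v b) : v * v = 1 := by
  by_contra hv2
  obtain ⟨T', hmem, -, hno⟩ := h.exists_sylow_fused T hb hnc hg
  obtain ⟨w, hwv, hw⟩ := exists_involution_zpowers T hv (ne_one_of_sq hv2)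
  exact hno w hw (h.square_involution_central T hv hv2 hw hwv)
    (h.square_involution_central T' (hmem v hv hvb) hv2 hw hwv)

/-- An element of order `2` which is isolated in `T` cannot exist. -/
theorem Hyp.not_isolated (hodd : ∀ N : Subgroup G, N.Normal → Odd (Nat.card N) → N = ⊥)
    (T : Sylow 2 G) {z : G} (hz : orderOf z = 2)
    (hiso : ∀ g : G, g * z * g⁻¹ ∈ (T : Subgroup G) → g * z * g⁻¹ = z) : False := by
  obtain ⟨N, hN, hNo, hzN⟩ := CfsgLib.Invol.zStar_sylow T z hz hiso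
  have hN1 := hodd N hN hNo
  have hcom : ∀ g : G, Commute z g := fun g => by
    have := hzN g
    rw [hN1, Subgroup.mem_bot] at this
    exact mul_inv_eq_iff_eq_mul.mp (mul_inv_eq_one.mp this)
  have hn : (Subgroup.zpowers z).Normal := ⟨fun n hn g => by
    obtain ⟨i, rfl⟩ := Subgroup.mem_zpowers_iff.mp hn
    rw [(((hcom g).zpow_left i).symm).eq, mul_inv_cancel_right]
    exact hn⟩
  have hs : Group.IsSolvable ↥(Subgroup.zpowers z) :=
    Group.isSolvable_of_comm fun a b => mul_comm' a b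
  exact ne_one_of_orderOf hz (Subgroup.zpowers_eq_bot.mp (h.rad _ hn hs))

/-- If `T` is generated by its elements of order at least `4` then it is abelian. -/
theorem Hyp.commute_of_closure_eq (hodd : ∀ N : Subgroup G, N.Normal → Odd (Nat.card N) → N = ⊥)
    (T : Sylow 2 G)
    (hT : Subgroup.closure {x : G | x ∈ (T : Subgroup G) ∧ x * x ≠ 1} = (T : Subgroup G)) :
    ∀ x ∈ (T : Subgroup G), ∀ y ∈ (T : Subgroup G), Commute x y := by
  haveI := Fact.mk Nat.prime_two
  have hgen : ∀ x : G, (∀ u ∈ (T : Subgroup G), u * u ≠ 1 → Commute x u) →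
      ∀ y ∈ (T : Subgroup G), Commute x y := by
    intro x hx y hy
    rw [← hT] at hy
    have : y ∈ C x := (Subgroup.closure_le _).mpr
      (fun u hu => mem_C.mpr (hx u hu.1 hu.2).symm.eq) hy
    exact (mem_C.mp this).symm
  by_contra hab
  obtain ⟨x₀, u₀, hx₀, hx₀2, hu₀, hu₀2, hne₀⟩ : ∃ x u : G, x ∈ (T : Subgroup G) ∧ x * x ≠ 1 ∧
      u ∈ (T : Subgroup G) ∧ u * u ≠ 1 ∧ ¬ Commute x u := by
    by_contra hno
    push Not at hno
    exact hab fun a ha b hb => hgen a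
      (fun u hu hu2 => ((hgen u (fun v hv hv2 => hno u v hu hu2 hv hv2)) a ha).symm) b hb
  -- two non-commuting elements share their involution
  have hshare : ∀ x u s r : G, x ∈ (T : Subgroup G) → x * x ≠ 1 → u ∈ (T : Subgroup G) →
      u * u ≠ 1 → ¬ Commute x u → orderOf s = 2 → s ∈ Subgroup.zpowers x → orderOf r = 2 →
      r ∈ Subgroup.zpowers u → s = r := by
    intro x u s r hx hx2 hu hu2 hne hs hsx hr hru
    have h1 : x * u * x⁻¹ * u⁻¹ ∈ Subgroup.zpowers x := by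
      rw [show x * u * x⁻¹ * u⁻¹ = x * (u * x * u⁻¹)⁻¹ by group]
      exact mul_mem (Subgroup.mem_zpowers x) (inv_mem (h.conj_mem_sylow T hx hx2 hu))
    have h2 : x * u * x⁻¹ * u⁻¹ ∈ Subgroup.zpowers u :=
      mul_mem (h.conj_mem_sylow T hu hu2 hx) (inv_mem (Subgroup.mem_zpowers u))
    obtain ⟨w, hwc, hw⟩ := exists_involution_zpowers T (Subgroup.zpowers_le.mpr hx h1)
      (fun he => hne (mul_inv_eq_iff_eq_mul.mp (mul_inv_eq_one.mp he)))
    exact (involution_unique hs hw hsx (Subgroup.zpowers_le.mpr h1 hwc)).trans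
      (involution_unique hw hr (Subgroup.zpowers_le.mpr h2 hwc) hru)
  obtain ⟨z, hzx₀, hz⟩ := exists_involution_zpowers T hx₀ (ne_one_of_sq hx₀2)
  obtain ⟨r₀, hr₀u, hr₀⟩ := exists_involution_zpowers T hu₀ (ne_one_of_sq hu₀2)
  have hr₀z : r₀ = z := (hshare x₀ u₀ z r₀ hx₀ hx₀2 hu₀ hu₀2 hne₀ hz hzx₀ hr₀ hr₀u).symm
  -- all such pairs have the same involution
  have hall : ∀ x u s : G, x ∈ (T : Subgroup G) → x * x ≠ 1 → u ∈ (T : Subgroup G) → u * u ≠ 1 →
      ¬ Commute x u → orderOf s = 2 → s ∈ Subgroup.zpowers x → s = z := by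
    intro x u s hx hx2 hu hu2 hne hs hsx
    by_contra hsz
    obtain ⟨r, hru, hr⟩ := exists_involution_zpowers T hu (ne_one_of_sq hu2)
    have hrs : r = s := (hshare x u s r hx hx2 hu hu2 hne hs hsx hr hru).symm
    have c1 : Commute x x₀ := by
      by_contra hc; exact hsz (hshare x x₀ s z hx hx2 hx₀ hx₀2 hc hs hsx hz hzx₀)
    have c2 : Commute x u₀ := by
      by_contra hc; exact hsz ((hshare x u₀ s r₀ hx hx2 hu₀ hu₀2 hc hs hsx hr₀ hr₀u).trans hr₀z)
    have c3 : Commute u x₀ := by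
      by_contra hc
      exact hsz (hrs ▸ hshare u x₀ r z hu hu2 hx₀ hx₀2 hc hr hru hz hzx₀)
    have d1 : ¬ Commute (x * x₀) u₀ := fun hc => hne₀ (by
      have := c2.inv_left.mul_left hc
      rwa [inv_mul_cancel_left] at this)
    have d2 : ¬ Commute (x * x₀) u := fun hc => hne (by
      have := hc.mul_left c3.symm.inv_left
      rwa [mul_inv_cancel_right] at this)
    by_cases hw2 : x * x₀ * (x * x₀) = 1
    · have he : x₀ * x₀ = (x * x)⁻¹ := eq_inv_of_mul_eq_one_right (by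
        calc x * x * (x₀ * x₀) = x * (x * x₀) * x₀ := by group
          _ = x * (x₀ * x) * x₀ := by rw [c1.eq]
          _ = 1 := by rw [← hw2]; group)
      obtain ⟨w, hwx, hw⟩ := exists_involution_zpowers T (mul_mem hx₀ hx₀) hx₀2
      have hwx₀ : w ∈ Subgroup.zpowers x₀ := Subgroup.zpowers_le.mpr
        (mul_mem (Subgroup.mem_zpowers x₀) (Subgroup.mem_zpowers x₀)) hwx
      have hwx' : w ∈ Subgroup.zpowers x := Subgroup.zpowers_le.mpr
        (he ▸ inv_mem (mul_mem (Subgroup.mem_zpowers x) (Subgroup.mem_zpowers x))) hwx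
      exact hsz ((involution_unique hs hw hsx hwx').trans (involution_unique hw hz hwx₀ hzx₀))
    · obtain ⟨w, hwx, hw⟩ := exists_involution_zpowers T (mul_mem hx hx₀) (ne_one_of_sq hw2)
      have e1 : w = r₀ := hshare _ u₀ w r₀ (mul_mem hx hx₀) hw2 hu₀ hu₀2 d1 hw hwx hr₀ hr₀u
      have e2 : w = r := hshare _ u w r (mul_mem hx hx₀) hw2 hu hu2 d2 hw hwx hr hru
      exact hsz (by rw [← hrs, ← e2, e1, hr₀z])
  have hzc : ∀ y ∈ (T : Subgroup G), Commute z y :=
    h.square_involution_central T hx₀ hx₀2 hz hzx₀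
  refine h.not_isolated hodd T hz fun g hg => ?_
  by_cases hc : ∀ y ∈ (T : Subgroup G), Commute (g * z * g⁻¹) y
  · obtain ⟨n, hn, hne⟩ := T.conj_eq_normalizer_conj_of_mem_centralizer z g⁻¹
      (fun y hy => (hzc y hy).symm.eq) (fun y hy => by rw [inv_inv]; exact (hc y hy).symm.eq)
    rw [inv_inv] at hne
    rw [hne]
    have hn' : ∀ a ∈ (T : Subgroup G), n⁻¹ * a * n ∈ (T : Subgroup G) := fun a ha =>
      (Subgroup.mem_normalizer_iff''.mp hn a).mp ha
    refine hall (n⁻¹ * x₀ * n) (n⁻¹ * u₀ * n) _ (hn' _ hx₀) ?_ (hn' _ hu₀) ?_ ?_ ?_ ?_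
    · intro he
      exact hx₀2 (by
        calc x₀ * x₀ = n * ((n⁻¹ * x₀ * n) * (n⁻¹ * x₀ * n)) * n⁻¹ := by group
          _ = 1 := by rw [he]; group)
    · intro he
      exact hu₀2 (by
        calc u₀ * u₀ = n * ((n⁻¹ * u₀ * n) * (n⁻¹ * u₀ * n)) * n⁻¹ := by group
          _ = 1 := by rw [he]; group)
    · intro he
      exact hne₀ (calc x₀ * u₀ = n * ((n⁻¹ * x₀ * n) * (n⁻¹ * u₀ * n)) * n⁻¹ := by group
        _ = n * ((n⁻¹ * u₀ * n) * (n⁻¹ * x₀ * n)) * n⁻¹ := by rw [he.eq]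
        _ = u₀ * x₀ := by group)
    · rw [show n⁻¹ * z * n = n⁻¹ * z * n⁻¹⁻¹ by group, ← MulAut.conj_apply, MulEquiv.orderOf_eq,
        hz]
    · obtain ⟨i, rfl⟩ := Subgroup.mem_zpowers_iff.mp hzx₀
      exact Subgroup.mem_zpowers_iff.mpr ⟨i, by
        rw [show n⁻¹ * x₀ * n = n⁻¹ * x₀ * n⁻¹⁻¹ by group, conj_zpow, inv_inv]⟩
  · exfalso
    set b := g * z * g⁻¹ with hbdef
    have hg' : ∀ y ∈ (T : Subgroup G), Commute (g⁻¹ * b * g⁻¹⁻¹) y := by
      rw [show g⁻¹ * b * g⁻¹⁻¹ = z by rw [hbdef]; group]; exact hzc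
    have hbb : b * b = 1 := mul_self_of_orderOf (by
      rw [hbdef, ← MulAut.conj_apply, MulEquiv.orderOf_eq, hz])
    -- `b` inverts the generators
    have hinv : ∀ x ∈ (T : Subgroup G), x * x ≠ 1 → b * x * b = x⁻¹ := by
      intro x hx hx2
      by_contra hno
      have hbx2 : b * x * (b * x) ≠ 1 := fun he => hno
        (eq_inv_of_mul_eq_one_left (by rw [← he]; group))
      obtain ⟨j, hj⟩ := Subgroup.mem_zpowers_iff.mp (h.conj_mem_sylow T (mul_mem hg hx) hbx2 hg)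
      have hb' : b⁻¹ = b := inv_eq_of_mul_eq_one_left hbb
      have hxb : b * (b * x) * b⁻¹ = x * b := by rw [← mul_assoc, hbb, one_mul, hb']
      rw [hxb] at hj
      have hcomm : b * x * (x * b) = x * b * (b * x) := by
        rw [← hj]; exact (Commute.self_zpow _ j).eq
      have hbxx : Commute (x * x) b := by
        change x * x * b = b * (x * x)
        calc x * x * b = x * (b * b) * x * b := by rw [hbb]; group
          _ = (x * b * (b * x)) * b := by group
          _ = (b * x * (x * b)) * b := by rw [hcomm]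
          _ = b * (x * x) * (b * b) := by group
          _ = b * (x * x) := by rw [hbb, mul_one]
      have hx4 : x * x * (x * x) = 1 := h.fused_sq T hg hc hg' (mul_mem hx hx) hbxx
      obtain ⟨i, hi⟩ := Subgroup.mem_zpowers_iff.mp (h.conj_mem_sylow T hx hx2 hg)
      rw [hb'] at hi
      have key : ∀ v, b * x * b = v → Commute v b → False := by
        intro v hv hvb
        have e1 : x = v := by
          calc x = (b * b) * x * (b * b) := by rw [hbb, one_mul, mul_one]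
            _ = b * (b * x * b) * b := by group
            _ = v := by rw [hv, ← hvb.eq, mul_assoc, hbb, mul_one]
        exact hx2 (h.fused_sq T hg hc hg' hx (e1 ▸ hvb))
      have hx22 : orderOf (x * x) = 2 := orderOf_eq_prime (by rw [sq, hx4]) hx2
      rcases Int.even_or_odd i with ⟨l, rfl⟩ | ⟨l, rfl⟩
      · refine key _ hi.symm ?_
        rw [zpow_add, ← (Commute.refl x).mul_zpow]
        exact hbxx.zpow_left l
      · rw [zpow_add_one, zpow_mul, zpow_two] at hi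
        rcases zpow_two_cases hx22 l with h' | h' <;> rw [h'] at hi
        · rw [one_mul] at hi
          have hxb : x * b = b * x := by
            calc x * b = b * x * b * b := by rw [← hi]
              _ = b * x := by rw [mul_assoc, hbb, mul_one]
          exact hx2 (h.fused_sq T hg hc hg' hx hxb)
        · refine hno ?_
          rw [← hi]
          exact eq_inv_of_mul_eq_one_left (by rw [← hx4]; group)
    have hxy2 : x₀ * u₀ * (x₀ * u₀) = 1 := by
      by_contra hn2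
      have := hinv _ (mul_mem hx₀ hu₀) hn2
      rw [show b * (x₀ * u₀) * b = b * x₀ * 1 * u₀ * b by group, ← hbb,
        show b * x₀ * (b * b) * u₀ * b = (b * x₀ * b) * (b * u₀ * b) by group, hinv _ hx₀ hx₀2,
        hinv _ hu₀ hu₀2, mul_inv_rev] at this
      exact hne₀ ((Commute.inv_inv_iff).mp this)
    set w := x₀ * u₀ * b with hwdef
    set c := x₀ * u₀ * x₀⁻¹ * u₀⁻¹ with hcdef
    have hww : w * w = c := by
      rw [hcdef, hwdef, show x₀ * u₀ * b * (x₀ * u₀ * b) = x₀ * u₀ * (b * x₀ * 1 * u₀ * b) by group,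
        ← hbb, show b * x₀ * (b * b) * u₀ * b = (b * x₀ * b) * (b * u₀ * b) by group,
        hinv _ hx₀ hx₀2, hinv _ hu₀ hu₀2]
      group
    have hc1 : c ≠ 1 := fun he => hne₀ (mul_inv_eq_iff_eq_mul.mp (mul_inv_eq_one.mp he))
    have hcx : c ∈ Subgroup.zpowers x₀ := by
      rw [hcdef, show x₀ * u₀ * x₀⁻¹ * u₀⁻¹ = x₀ * (u₀ * x₀ * u₀⁻¹)⁻¹ by group]
      exact mul_mem (Subgroup.mem_zpowers x₀) (inv_mem (h.conj_mem_sylow T hx₀ hx₀2 hu₀))
    have hcu : c ∈ Subgroup.zpowers u₀ :=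
      mul_mem (h.conj_mem_sylow T hu₀ hu₀2 hx₀) (inv_mem (Subgroup.mem_zpowers u₀))
    obtain ⟨ix, hix⟩ := Subgroup.mem_zpowers_iff.mp hcx
    obtain ⟨iu, hiu⟩ := Subgroup.mem_zpowers_iff.mp hcu
    have hbc : b * c * b = c⁻¹ := by
      have hb' : b⁻¹ = b := inv_eq_of_mul_eq_one_left hbb
      have := conj_zpow (a := b) (b := x₀) (i := ix)
      rw [hb', hinv _ hx₀ hx₀2, inv_zpow, hix] at this
      exact this.symm
    have hcx' : Commute c x₀ := hix ▸ Commute.zpow_self x₀ ix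
    have hcu' : Commute c u₀ := hiu ▸ Commute.zpow_self u₀ iu
    have hcb : Commute c b := by
      have h1 : Commute c w := hww ▸ (Commute.refl w).mul_left (Commute.refl w)
      have h2 := ((hcx'.mul_right hcu').inv_right).mul_right h1
      rwa [hwdef, inv_mul_cancel_left] at h2
    have hcc : c * c = 1 := mul_eq_one_iff_eq_inv.mpr (by
      rw [← hbc, ← hcb.eq, mul_assoc, hbb, mul_one])
    have hw2 : w * w ≠ 1 := hww ▸ hc1
    have hco : orderOf c = 2 := orderOf_eq_prime (by rw [sq, hcc]) hc1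
    obtain ⟨k, hk⟩ := Subgroup.mem_zpowers_iff.mp
      (h.conj_mem_sylow T (mul_mem (mul_mem hx₀ hu₀) hg) hw2 hx₀)
    rw [← hwdef] at hk
    have hxu : x₀ * u₀ * x₀ = u₀⁻¹ := eq_inv_of_mul_eq_one_left (by rw [← hxy2]; group)
    have hxwx : x₀ * w * x₀⁻¹ = x₀ * (x₀ * u₀ * x₀) * b := by
      rw [hwdef, show x₀ * (x₀ * u₀ * b) * x₀⁻¹ = x₀ * x₀ * u₀ * (b * x₀⁻¹) by group,
        ← hinv _ hx₀ hx₀2, ← mul_assoc b, ← mul_assoc b, hbb]
      group
    rcases Int.even_or_odd k with ⟨l, rfl⟩ | ⟨l, rfl⟩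
    · rw [zpow_add, ← (Commute.refl w).mul_zpow, hww] at hk
      rcases zpow_two_cases hco l with h' | h' <;> rw [h'] at hk
      · exact hw2 (by rw [conj_eq_one_iff.mp hk.symm, mul_one])
      · refine hw2 ?_
        have e1 : w = c := by
          calc w = x₀⁻¹ * (x₀ * w * x₀⁻¹) * x₀ := by group
            _ = c := by rw [← hk, mul_assoc, hcx'.eq, inv_mul_cancel_left]
        rw [e1, hcc]
    · rw [zpow_add_one, zpow_mul, zpow_two, hww, hxwx, hxu] at hk
      rcases zpow_two_cases hco l with h' | h' <;> rw [h'] at hk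
      · refine hu₀2 ?_
        rw [one_mul, hwdef] at hk
        have e1 : u₀ = u₀⁻¹ := mul_left_cancel (mul_right_cancel hk)
        exact mul_eq_one_iff_eq_inv.mpr e1
      · refine hx₀2 ?_
        rw [hwdef, ← mul_assoc c, ← mul_assoc c, hcx'.eq, mul_assoc x₀ c] at hk
        have e2 : c * u₀ = u₀⁻¹ := mul_left_cancel (mul_right_cancel hk)
        have e3 : c = u₀⁻¹ * (x₀ * x₀)⁻¹ * u₀⁻¹ := by
          rw [hcdef, ← hxu]; group
        rw [e3, inv_mul_cancel_right] at e2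
        exact inv_eq_one.mp (mul_left_cancel (e2.trans (mul_one _).symm))

/-- The structure of a Sylow `2`-subgroup. -/
theorem Hyp.sylow_structure (hodd : ∀ N : Subgroup G, N.Normal → Odd (Nat.card N) → N = ⊥)
    (T : Sylow 2 G) :
    (∀ x ∈ (T : Subgroup G), ∀ y ∈ (T : Subgroup G), Commute x y) ∨
    ∃ A : Subgroup G, A ≤ T ∧ (∃ y ∈ (T : Subgroup G), y ∉ A) ∧ (∃ x ∈ A, x * x ≠ 1) ∧
      (∀ x ∈ A, ∀ y ∈ A, Commute x y) ∧
      (∀ y ∈ (T : Subgroup G), y ∉ A → y * y = 1) ∧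
      (∀ y ∈ (T : Subgroup G), y ∉ A → ∀ x ∈ A, y * x * y⁻¹ = x⁻¹) ∧
      (∀ y ∈ (T : Subgroup G), ∀ y' ∈ (T : Subgroup G), y ∉ A → y' ∉ A → y * y' ∈ A) := by
  by_cases hex : ∀ x ∈ (T : Subgroup G), x * x = 1
  · left
    intro x hx y hy
    have e1 : x⁻¹ = x := inv_eq_of_mul_eq_one_left (hex x hx)
    have e2 : y⁻¹ = y := inv_eq_of_mul_eq_one_left (hex y hy)
    have e3 : (x * y)⁻¹ = x * y := inv_eq_of_mul_eq_one_left (hex _ (mul_mem hx hy))
    rw [mul_inv_rev, e1, e2] at e3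
    exact e3.symm
  set A := Subgroup.closure {x : G | x ∈ (T : Subgroup G) ∧ x * x ≠ 1} with hA
  have hAT : A ≤ (T : Subgroup G) := (Subgroup.closure_le _).mpr fun x hx => hx.1
  by_cases hAeq : A = (T : Subgroup G)
  · exact Or.inl (h.commute_of_closure_eq hodd T hAeq)
  push Not at hex
  obtain ⟨x₁, hx₁, hx₁2⟩ := hex
  have hout : ∀ y ∈ (T : Subgroup G), y ∉ A → y * y = 1 := fun y hy hyA => by
    by_contra h2; exact hyA (Subgroup.subset_closure ⟨hy, h2⟩)
  have hinv : ∀ y ∈ (T : Subgroup G), y ∉ A → ∀ x ∈ A, y * x * y⁻¹ = x⁻¹ := by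
    intro y hy hyA x hx
    have h1 := hout _ (mul_mem hy (hAT hx)) fun hm => hyA (by
      simpa using mul_mem hm (inv_mem hx))
    rw [inv_eq_of_mul_eq_one_left (hout y hy hyA)]
    exact eq_inv_of_mul_eq_one_left (by rw [← h1]; group)
  obtain ⟨y₀, hy₀, hy₀A⟩ := SetLike.exists_of_lt (lt_of_le_of_ne hAT hAeq)
  have hx₁A : x₁ ∈ A := Subgroup.subset_closure ⟨hx₁, hx₁2⟩
  refine Or.inr ⟨A, hAT, ⟨y₀, hy₀, hy₀A⟩, ⟨x₁, hx₁A, hx₁2⟩, fun a ha b hb => ?_, hout, hinv,
    fun y hy y' hy' hyA hy'A => ?_⟩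
  · have h1 := hinv y₀ hy₀ hy₀A _ (mul_mem ha hb)
    rw [show y₀ * (a * b) * y₀⁻¹ = (y₀ * a * y₀⁻¹) * (y₀ * b * y₀⁻¹) by group,
      hinv y₀ hy₀ hy₀A a ha, hinv y₀ hy₀ hy₀A b hb, ← mul_inv_rev] at h1
    exact (inv_inj.mp h1).symm
  · by_contra hm
    have h1 := hinv _ (mul_mem hy hy') hm x₁ hx₁A
    rw [show y * y' * x₁ * (y * y')⁻¹ = y * (y' * x₁ * y'⁻¹) * y⁻¹ by group, hinv y' hy' hy'A x₁
      hx₁A, hinv y hy hyA _ (inv_mem hx₁A), inv_inv] at h1
    exact hx₁2 (mul_eq_one_iff_eq_inv.mpr h1)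

end CfsgLib.CyclicNorm
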